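import Cfsg.Agent.Known.SpectrumNine.Emb
import Cfsg.Agent.Known.OrthSpectrum.Odd
import Cfsg.Agent.Known.OrthCount
import Cfsg.Agent.Known.FormEquiv
import Cfsg.Agent.Known.FormIndex
import Cfsg.Agent.Known.OrthAut.Forms
import Cfsg.Agent.Known.OrthField.Classify
import Mathlib

/-! Cyclic tori of the orthogonal groups acting semiregularly, and their spinor values. -/

set_option autoImplicit false
set_option linter.style.haveILetI false
set_option linter.unusedSectionVars false

open QuadraticMap Cfsg.Lib.Classical Cfsg.Lib.Classical.Refl Matrix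

namespace Cfsg.Lib.SpectrumNine

universe u

variable {F : Type u} [Field F] [Fintype F] {ι : Type} [Fintype ι] [DecidableEq ι]

/-- Every vector other than zero has full period `N`. -/
def Semireg (Q : QuadraticForm F (ι → F)) (g : Cfsg.isometryGroup F (⇑Q)) (N : ℕ) : Prop :=
  ∀ x : ι → F, x ≠ 0 → ∀ k : ℕ, mat Q (g ^ k) *ᵥ x = x → N ∣ k

/-- Determinant one for fixed point free isometries in even dimension. -/
theorem det_of_free (h2 : (2 : F) ≠ 0) (Q : QuadraticForm F (ι → F)) (hQ : (polarBilin Q).Nondegenerate)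
    (hev : Even (Fintype.card ι)) (g : Cfsg.isometryGroup F (⇑Q)) (hfree : ∀ x, mat Q g *ᵥ x = x → x = 0) :
    detHom Q g = 1 := by
  classical
  set A := mat Q g with hA'
  have hA : ∀ v, Q (A *ᵥ v) = Q v := (mem_iff Q).mp g.2
  set G : Matrix ι ι F := LinearMap.BilinForm.toMatrix' (polarBilin Q) with hG
  have hGd : G.det ≠ 0 := LinearMap.BilinForm.nondegenerate_toMatrix'_iff.2 hQ |>.det_ne_zero
  have hAG : Aᵀ * G * A = G := by
    have e : LinearMap.BilinForm.comp (polarBilin Q : LinearMap.BilinForm F (ι → F)) (Matrix.toLin' A) (Matrix.toLin' A) =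
        polarBilin Q :=
      LinearMap.ext₂ fun x y => by
        show polar (⇑Q) (Matrix.toLin' A x) (Matrix.toLin' A y) = polar (⇑Q) x y
        exact OrthSpectrum.polar_map Q (a := Matrix.toLin' A) (fun v => by rw [Matrix.toLin'_apply]; exact hA v) x y
    have := congrArg LinearMap.BilinForm.toMatrix' e
    rw [LinearMap.BilinForm.toMatrix'_comp, LinearMap.toMatrix'_toLin'] at this
    exact this
  have e1 : (A - 1)ᵀ * G * A = -(G * (A - 1)) := by
    rw [Matrix.transpose_sub, Matrix.transpose_one, Matrix.sub_mul, Matrix.sub_mul, hAG, Matrix.one_mul, Matrix.mul_sub,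
      Matrix.mul_one, neg_sub]
  have h := congrArg Matrix.det e1
  rw [det_mul, det_mul, det_transpose, det_neg, det_mul, hev.neg_one_pow, one_mul] at h
  have hne : (A - 1).det ≠ 0 := fun h0 => by
    obtain ⟨v, hv, hAv⟩ := Matrix.exists_mulVec_eq_zero_iff.2 h0
    exact hv (hfree v (by rwa [Matrix.sub_mulVec, Matrix.one_mulVec, sub_eq_zero] at hAv))
  have h0 : G.det * (A - 1).det * (A.det - 1) = 0 := by linear_combination h
  exact Units.ext (sub_eq_zero.1 ((mul_eq_zero.1 h0).resolve_left (mul_ne_zero hGd hne)))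

/-- The cycles of a semiregular isometry on the sphere. -/
theorem semireg_sphere [DecidableEq F] {Q : QuadraticForm F (ι → F)} {g : Cfsg.isometryGroup F (⇑Q)} {N : ℕ}
    (hN : g ^ N = 1) (hev : Even N) (hN1 : N ≠ 1) (hs : Semireg Q g N) :
    ∃ c, Nat.card {x : ι → F // Q x = 1} = N * c ∧ spin Q g = (-1) ^ c := by
  classical
  set σ := spherePerm Q g with hσ
  have hpow : ∀ (k : ℕ) (x : {x : ι → F // Q x = 1}), ((σ ^ k) x).1 = mat Q (g ^ k) *ᵥ x.1 := fun k x => by
    rw [hσ, ← map_pow]; rfl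
  have hne : ∀ x : {x : ι → F // Q x = 1}, x.1 ≠ 0 := fun x h => by
    have := x.2
    rw [h, QuadraticMap.map_zero] at this
    exact zero_ne_one this
  obtain ⟨c, hcard, hsign⟩ := OrthSpectrum.sign_of_semiregular σ (N := N) (by rw [hσ, ← map_pow, hN, map_one]) hev
    fun x _ k hk => hs x.1 (hne x) k (by rw [← hpow, hk])
  refine ⟨c, ?_, hsign⟩
  rw [← hcard, show σ.support = Finset.univ from Finset.eq_univ_iff_forall.2 fun x => ?_, Finset.card_univ,
    Nat.card_eq_fintype_card]
  rw [Equiv.Perm.mem_support]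
  intro hx
  have := hs x.1 (hne x) 1 (by rw [← hpow, pow_one]; exact congrArg Subtype.val hx)
  exact hN1 (Nat.dvd_one.1 this)

/-- A space of dimension `2 * d` of plus type has a totally singular half. -/
def IsPlus (Q : QuadraticForm F (ι → F)) (d : ℕ) : Prop :=
  ∃ T : Submodule F (ι → F), Module.finrank F T = d ∧ ∀ x ∈ T, Q x = 0

theorem decomp_plus_iff {Q : QuadraticForm F (ι → F)} (hQ : (polarBilin Q).Nondegenerate) {d : ℕ}
    (hι : Fintype.card ι = 2 * d) (D : FormNormal.Decomp Q (⊤ : Submodule F (ι → F))) :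
    IsPlus Q d ↔ Module.finrank F D.K = 0 := by
  classical
  have hV : Module.finrank F (ι → F) = 2 * d := by rw [Module.finrank_fintype_fun_eq_card, hι]
  have hdim := D.dim
  rw [finrank_top, hV] at hdim
  constructor
  · rintro ⟨T, hT, hT0⟩
    have := FormNormal.index_eq hQ D T hT0 (FormNormal.half_max hQ T hT0 (by omega))
    omega
  · intro h0
    refine ⟨Submodule.span F (Set.range D.e), ?_, D.span_e_singular⟩
    rw [finrank_span_eq_card D.e_indep, Fintype.card_fin]
    omega

theorem exists_decomp' {Q : QuadraticForm F (ι → F)} (hQ : (polarBilin Q).Nondegenerate) :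
    Nonempty (FormNormal.Decomp Q (⊤ : Submodule F (ι → F))) :=
  FormNormal.exists_decomp Q _ ⊤ rfl (FormNormal.nd_top Q hQ)

theorem card_sphere {Q : QuadraticForm F (ι → F)} (hQ : (polarBilin Q).Nondegenerate) {d : ℕ} (hd : 1 ≤ d)
    (hι : Fintype.card ι = 2 * d) :
    (IsPlus Q d → Nat.card {x : ι → F // Q x = 1} = Fintype.card F ^ (d - 1) * (Fintype.card F ^ d - 1)) ∧
    (¬ IsPlus Q d → Nat.card {x : ι → F // Q x = 1} = Fintype.card F ^ (d - 1) * (Fintype.card F ^ d + 1)) := by
  obtain ⟨D⟩ := exists_decomp' hQ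
  have h := OrthCount.card_one hd hQ D (by rw [Module.finrank_fintype_fun_eq_card, hι])
  have h1 : 1 ≤ Fintype.card F ^ d := Nat.one_le_pow _ _ Fintype.card_pos
  refine ⟨fun hp => ?_, fun hp => ?_⟩
  · rw [if_pos ((decomp_plus_iff hQ hι D).1 hp)] at h
    exact Int.ofNat_inj.1 (by push_cast [h1]; exact h)
  · rw [if_neg fun h0 => hp ((decomp_plus_iff hQ hι D).2 h0)] at h
    exact Int.ofNat_inj.1 (by push_cast; rw [h]; ring)

/-- A space which is not of plus type is the standard minus space. -/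
theorem exists_minus_iso {Q : QuadraticForm F (ι → F)} (hQ : (polarBilin Q).Nondegenerate) {k : ℕ}
    (hι : Fintype.card ι = 2 * (k + 1)) (hp : ¬ IsPlus Q (k + 1)) {ζ : F} (hζ : ∀ t : F, t ^ 2 + t + ζ ≠ 0) :
    ∃ g : (ι → F) ≃ₗ[F] ((Fin k ⊕ Fin k) ⊕ Fin 2 → F), ∀ v, Q v = Cfsg.quadFormMinus k F 1 ζ (g v) := by
  rcases OrthField.even_cases hQ (m := k + 1) (by rw [Module.finrank_fintype_fun_eq_card, hι]) with ⟨g, hg⟩ | ⟨k', hk, h⟩
  · refine absurd ?_ hp
    let E : (Fin (k + 1) → F) →ₗ[F] (Fin (k + 1) ⊕ Fin (k + 1) → F) :=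
      { toFun := fun x => Sum.elim x 0
        map_add' := fun x y => funext fun i => by cases i <;> simp
        map_smul' := fun c x => funext fun i => by cases i <;> simp }
    refine ⟨LinearMap.range (g.symm.toLinearMap.comp E), ?_, ?_⟩
    · have hE : Function.Injective (g.symm.toLinearMap.comp E) := fun x y h =>
        funext fun i => congrFun (g.symm.injective h) (Sum.inl i)
      rw [LinearMap.finrank_range_of_inj hE, Module.finrank_fin_fun]
    · rintro _ ⟨x, rfl⟩
      simp [hg, E, Cfsg.quadFormPlus]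
  · obtain rfl : k' = k := by omega
    exact h ζ hζ

/-- Isometric embedding between two spaces which are not of plus type. -/
theorem exists_emb_minus {κ : Type} [Fintype κ] [DecidableEq κ] {R : QuadraticForm F (κ → F)}
    {Q : QuadraticForm F (ι → F)} (hR : (polarBilin R).Nondegenerate) (hQ : (polarBilin Q).Nondegenerate) {k : ℕ}
    (hκ : Fintype.card κ = 2 * (k + 1)) (hι : Fintype.card ι = 2 * (k + 1)) (hRp : ¬ IsPlus R (k + 1))
    (hQp : ¬ IsPlus Q (k + 1)) : Nonempty (Emb R Q) := by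
  obtain ⟨ζ, hζ⟩ := OrthField.exists_zeta (F := F)
  obtain ⟨g, hg⟩ := exists_minus_iso hR hκ hRp hζ
  obtain ⟨g', hg'⟩ := exists_minus_iso hQ hι hQp hζ
  exact ⟨{ L := g'.symm.toLinearMap.comp g.toLinearMap, c := 1, hc := one_ne_zero,
           hL := fun x => by simp [hg', hg], hR := hR }⟩

section Field

/-- Coordinates for an abstract space with an isometry. -/
theorem exists_model {V : Type*} [AddCommGroup V] [Module F V] [FiniteDimensional F V] (P : QuadraticForm F V)
    (hP : (polarBilin P).Nondegenerate) {n : ℕ} (hn : Module.finrank F V = n) (a : V ≃ₗ[F] V)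
    (ha : ∀ v, P (a v) = P v) :
    ∃ (e : V ≃ₗ[F] (Fin n → F)) (g : Cfsg.isometryGroup F (⇑(P.comp e.symm.toLinearMap))),
      (polarBilin (P.comp e.symm.toLinearMap)).Nondegenerate ∧
      ∀ (k : ℕ) (x : Fin n → F), mat (P.comp e.symm.toLinearMap) (g ^ k) *ᵥ x = e ((a ^ k) (e.symm x)) := by
  let e : V ≃ₗ[F] (Fin n → F) := ((Module.finBasis F V).reindex (finCongr hn)).equivFun
  let M : Matrix (Fin n) (Fin n) F := LinearMap.toMatrix' (e.toLinearMap.comp (a.toLinearMap.comp e.symm.toLinearMap))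
  have hdet : M.det ≠ 0 := by
    rw [LinearMap.det_toMatrix']
    exact (LinearEquiv.isUnit_det' (e.symm.trans (a.trans e))).ne_zero
  have hM : ∀ x, M *ᵥ x = e (a (e.symm x)) := fun x => LinearMap.toMatrix'_mulVec _ _
  let g : Cfsg.isometryGroup F (⇑(P.comp e.symm.toLinearMap)) :=
    ⟨Matrix.GeneralLinearGroup.mkOfDetNeZero M hdet, (mem_iff _).mpr fun x => by
      show P (e.symm (M *ᵥ x)) = P (e.symm x)
      rw [hM, e.symm_apply_apply, ha]⟩
  have hnd : ∀ x, (∀ y, polar (⇑(P.comp e.symm.toLinearMap)) x y = 0) → x = 0 := fun x hx => by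
    refine e.symm.injective ?_
    rw [map_zero]
    refine hP.1 _ fun v => ?_
    show polar (⇑P) (e.symm x) v = 0
    have := hx (e v)
    simp only [polar, QuadraticMap.comp_apply, map_add, LinearEquiv.coe_coe, e.symm_apply_apply] at this
    exact this
  refine ⟨e, g, ⟨hnd, fun x hx => hnd x fun y => by rw [QuadraticMap.polar_comm]; exact hx y⟩, fun k => ?_⟩
  induction k with
  | zero => intro x; simp [mat]
  | succ k ih =>
    intro x
    rw [pow_succ', mat, mulVec_mul, pow_succ']
    change M *ᵥ (mat _ (g ^ k) *ᵥ x) = _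
    rw [ih, hM, e.symm_apply_apply]
    rfl

variable (F) in
theorem exists_extension (n : ℕ) (hn : 1 ≤ n) :
    ∃ (K : Type) (_ : Field K) (_ : Fintype K) (_ : Algebra F K),
      Module.finrank F K = n ∧ Fintype.card K = Fintype.card F ^ n := by
  obtain ⟨p, hp⟩ := CharP.exists F
  haveI : Fact p.Prime := ⟨CharP.char_is_prime F p⟩
  haveI : NeZero n := ⟨by omega⟩
  let K := FiniteField.Extension F p n
  have hcK : Nat.card K = Fintype.card F ^ n := by rw [FiniteField.natCard_extension, Nat.card_eq_fintype_card]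
  haveI : Finite K := Nat.finite_of_card_ne_zero (by rw [hcK]; exact pow_ne_zero _ Fintype.card_ne_zero)
  letI := Fintype.ofFinite K
  exact ⟨K, inferInstance, inferInstance, inferInstance, FiniteField.finrank_extension F p n,
    by rw [← Nat.card_eq_fintype_card, hcK]⟩

theorem exists_unit_order {K : Type*} [Field K] [Fintype K] {N : ℕ} (h : N ∣ Fintype.card K - 1) :
    ∃ l : Kˣ, orderOf l = N := by
  classical
  obtain ⟨w, hw⟩ := IsCyclic.exists_ofOrder_eq_natCard (α := Kˣ)
  rw [Nat.card_units, Nat.card_eq_fintype_card] at hw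
  exact ⟨w ^ (orderOf w / N), orderOf_pow_orderOf_div (orderOf_pos w).ne' (hw ▸ h)⟩

/-- A semiregular isometry from a unit of a field acting on a space. -/
theorem torus_of_action (h2 : (2 : F) ≠ 0) [DecidableEq F] {V : Type*} [AddCommGroup V] [Module F V]
    [FiniteDimensional F V] (P : QuadraticForm F V) (hP : (polarBilin P).Nondegenerate) {d N : ℕ} (hd : 1 ≤ d)
    (hV : Module.finrank F V = 2 * d) (a : V ≃ₗ[F] V) (ha : ∀ v, P (a v) = P v) (haN : a ^ N = 1) (hev : Even N)
    (hfree : ∀ (k : ℕ) (v : V), v ≠ 0 → (a ^ k) v = v → N ∣ k) (hN0 : 0 < N) :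
    ∃ (R : QuadraticForm F (Fin (2 * d) → F)) (g : Cfsg.isometryGroup F (⇑R)),
      (polarBilin R).Nondegenerate ∧ orderOf g = N ∧ detHom R g = 1 ∧
      (∃ c, Nat.card {x : Fin (2 * d) → F // R x = 1} = N * c ∧ spin R g = (-1) ^ c) ∧
      (∀ T : Submodule F V, (∀ v ∈ T, P v = 0) → Module.finrank F T = d → IsPlus R d) := by
  obtain ⟨e, g, hnd, hg⟩ := exists_model P hP hV a ha
  let R := P.comp e.symm.toLinearMap
  have hg : ∀ (k : ℕ) (x : Fin (2 * d) → F), mat R (g ^ k) *ᵥ x = e ((a ^ k) (e.symm x)) := hg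
  have hN1 : N ≠ 1 := fun h => by rw [h] at hev; exact absurd hev (by decide)
  have hgN : g ^ N = 1 := ext_mulVec R fun x => by rw [hg, haN]; simp [mat]
  have hs : Semireg R g N := fun x hx k hk => by
    rw [hg, ← LinearEquiv.eq_symm_apply] at hk
    exact hfree k _ (fun h => hx (e.symm.injective (h.trans (map_zero _).symm))) hk
  have hord : orderOf g = N := by
    refine Nat.dvd_antisymm (orderOf_dvd_of_pow_eq_one hgN) (hs (Pi.single ⟨0, by omega⟩ 1)
      (fun h => by simpa using congrFun h ⟨0, by omega⟩) _ ?_)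
    rw [pow_orderOf_eq_one]; exact Matrix.one_mulVec _
  refine ⟨R, g, hnd, hord, det_of_free h2 R hnd (by simp) g fun x hx => ?_, semireg_sphere hgN hev hN1 hs,
    fun T hT hTd => ⟨T.map e.toLinearMap, by rw [LinearEquiv.finrank_map_eq, hTd], ?_⟩⟩
  · by_contra h
    exact hN1 (Nat.dvd_one.1 (hs x h 1 (by rwa [pow_one])))
  · rintro _ ⟨v, hv, rfl⟩
    show P (e.symm (e v)) = 0
    rw [e.symm_apply_apply]
    exact hT v hv

theorem q_facts (h2 : (2 : F) ≠ 0) {d : ℕ} (hd : 1 ≤ d) :
    Odd (Fintype.card F ^ (d - 1)) ∧ Even (Fintype.card F ^ d + 1) ∧ Even (Fintype.card F ^ d - 1) ∧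
      3 ≤ Fintype.card F ^ d := by
  have ho : Odd (Fintype.card F) := Nat.odd_iff.2 (by
    rcases Nat.mod_two_eq_zero_or_one (Fintype.card F) with h | h
    · exfalso
      haveI : CharP F 2 := ringChar.eq_iff.1 (FiniteField.even_card_iff_char_two.2 h)
      exact h2 CharTwo.two_eq_zero
    · exact h)
  have h3 : 3 ≤ Fintype.card F := by
    have := Fintype.one_lt_card (α := F)
    obtain ⟨b, hb⟩ := ho
    omega
  exact ⟨ho.pow, (ho.pow).add_one, Nat.Odd.sub_odd ho.pow odd_one,
    h3.trans (Nat.le_self_pow (by omega) _)⟩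

theorem linEquiv_pow {V : Type*} [AddCommGroup V] [Module F V] (a : V ≃ₗ[F] V) (m : ℕ → V → V)
    (h0 : ∀ v, m 0 v = v) (hs : ∀ k v, m (k + 1) v = a (m k v)) : ∀ k v, (a ^ k) v = m k v := by
  intro k
  induction k with
  | zero => intro v; rw [h0]; rfl
  | succ k ih => intro v; rw [pow_succ', hs, ← ih]; rfl

/-- The torus of order `q ^ d + 1`. -/
theorem exists_minus_torus [DecidableEq F] (h2 : (2 : F) ≠ 0) {d : ℕ} (hd : 1 ≤ d) :
    ∃ (R : QuadraticForm F (Fin (2 * d) → F)) (g : Cfsg.isometryGroup F (⇑R)),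
      (polarBilin R).Nondegenerate ∧ orderOf g = Fintype.card F ^ d + 1 ∧ detHom R g = 1 ∧ spin R g = -1 ∧
      ¬ IsPlus R d := by
  classical
  obtain ⟨q, hq⟩ : ∃ q, q = Fintype.card F ^ d := ⟨_, rfl⟩
  obtain ⟨hodd, hev, -, h3⟩ := q_facts h2 hd
  rw [← hq] at hev h3
  obtain ⟨K, _, _, _, hKd, hKc⟩ := exists_extension F (2 * d) (by omega)
  rw [show 2 * d = d + d by ring, pow_add, ← hq] at hKc
  have hfr : ∀ x : K, (x ^ q) ^ q = x := fun x => by rw [← pow_mul, ← hKc, FiniteField.pow_card]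
  let σ : K →ₐ[F] K := FiniteField.frobeniusAlgHom F K ^ d
  have hσ : ∀ x, σ x = x ^ q := fun x => by
    rw [hq]
    have : ∀ n : ℕ, (FiniteField.frobeniusAlgHom F K ^ n) x = x ^ Fintype.card F ^ n := fun n => by
      induction n with
      | zero => simp
      | succ n ih => rw [pow_succ', AlgHom.mul_apply, ih, pow_succ, pow_mul]; rfl
    exact this d
  have htr : ∀ x : K, Algebra.trace F K (σ x) = Algebra.trace F K x := fun x =>
    Algebra.trace_eq_of_algEquiv (AlgEquiv.ofBijective σ (Algebra.IsAlgebraic.algHom_bijective σ)) x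
  let B : LinearMap.BilinForm F K :=
    LinearMap.mk₂ F (fun x y => Algebra.trace F K (σ x * y))
      (fun x y z => by simp [add_mul]) (fun c x y => by simp) (fun x y z => by simp [mul_add]) (fun c x y => by simp)
  let P : QuadraticForm F K := LinearMap.BilinMap.toQuadraticMap B
  have hP : ∀ x, P x = Algebra.trace F K (σ x * x) := fun x => rfl
  have hpol : ∀ x y, polar (⇑P) x y = 2 * Algebra.trace F K (σ x * y) := fun x y => by
    have h1 : Algebra.trace F K (σ y * x) = Algebra.trace F K (σ x * y) := by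
      rw [← htr, map_mul, hσ (σ y), hσ y, hfr, mul_comm]
    simp only [polar, hP, map_add, add_mul, mul_add]
    linear_combination h1
  have hPnd : (polarBilin P).Nondegenerate := by
    have h1 : ∀ x, (∀ y, polar (⇑P) x y = 0) → x = 0 := fun x hx => by
      have hx' : σ x = 0 := (traceForm_nondegenerate F K).1 _ fun y => by
        have := hx y
        rw [hpol, mul_eq_zero] at this
        exact this.resolve_left h2
      exact σ.toRingHom.injective (hx'.trans (map_zero _).symm)
    exact ⟨h1, fun x hx => h1 x fun y => by rw [QuadraticMap.polar_comm]; exact hx y⟩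
  obtain ⟨l, hl⟩ := exists_unit_order (K := K) (N := q + 1) (by
    rw [hKc]
    obtain ⟨r, rfl⟩ : ∃ r, q = r + 1 := ⟨q - 1, by omega⟩
    exact ⟨r, by rw [Nat.sub_eq_iff_eq_add (by nlinarith)]; ring⟩)
  let a : K ≃ₗ[F] K := LinearEquiv.ofBijective (LinearMap.mulLeft F (l : K))
    ⟨fun x y h => mul_left_cancel₀ l.ne_zero h, fun y => ⟨(l : K)⁻¹ * y, by simp [← mul_assoc]⟩⟩
  have hpow := linEquiv_pow a (fun k v => (l : K) ^ k * v) (fun v => by simp) (fun k v => by
    show _ = (l : K) * ((l : K) ^ k * v); ring)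
  have hl1 : (l : K) ^ (q + 1) = 1 := by rw [← Units.val_pow_eq_pow_val, ← hl, pow_orderOf_eq_one]; rfl
  obtain ⟨R, g, hR, hg, hdet, ⟨c, hc, hspin⟩, -⟩ := torus_of_action h2 P hPnd hd hKd a
    (fun x => by
      show P ((l : K) * x) = P x
      rw [hP, hP, hσ, mul_pow, hσ]
      congr 1
      calc (l : K) ^ q * x ^ q * ((l : K) * x) = (l : K) ^ (q + 1) * (x ^ q * x) := by ring
        _ = x ^ q * x := by rw [hl1, one_mul])
    (N := q + 1) (LinearEquiv.ext fun x => by rw [hpow, hl1, one_mul]; rfl) hev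
    (fun k v hv hk => hl ▸ orderOf_dvd_of_pow_eq_one (Units.ext (by
      rw [hpow] at hk
      simpa using mul_right_cancel₀ hv (hk.trans (one_mul v).symm)))) (by omega)
  have hcard := card_sphere hR hd (by simp)
  rw [hc, ← hq] at hcard
  have hcop : Nat.Coprime (q + 1) (Fintype.card F ^ (d - 1)) := by
    refine Nat.Coprime.coprime_dvd_right (show Fintype.card F ^ (d - 1) ∣ q from hq ▸ pow_dvd_pow _ (Nat.sub_le _ _)) ?_
    simp
  have hnp : ¬ IsPlus R d := fun hp => by
    have hcard := hcard.1 hp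
    have := Nat.le_of_dvd (by omega) (hcop.dvd_of_dvd_mul_left ⟨c, hcard.symm⟩)
    omega
  replace hcard := hcard.2 hnp
  rw [mul_comm, mul_right_cancel_iff_of_pos (by omega : 0 < q + 1)] at hcard
  exact ⟨R, g, hR, hg.trans (by rw [hq]), hdet, by rw [hspin, hcard, hodd.neg_one_pow], hnp⟩

/-- The torus of order `q ^ d - 1`. -/
theorem exists_plus_torus [DecidableEq F] (h2 : (2 : F) ≠ 0) {d : ℕ} (hd : 1 ≤ d) :
    ∃ (R : QuadraticForm F (Fin (2 * d) → F)) (g : Cfsg.isometryGroup F (⇑R)),
      (polarBilin R).Nondegenerate ∧ orderOf g = Fintype.card F ^ d - 1 ∧ detHom R g = 1 ∧ spin R g = -1 ∧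
      IsPlus R d := by
  classical
  obtain ⟨hodd, -, hev, h3⟩ := q_facts h2 hd
  obtain ⟨K, _, _, _, hKd, hKc⟩ := exists_extension F d hd
  let B : LinearMap.BilinForm F (K × K) :=
    LinearMap.mk₂ F (fun x y => Algebra.trace F K (x.1 * y.2))
      (fun x y z => by simp [add_mul]) (fun c x y => by simp) (fun x y z => by simp [mul_add]) (fun c x y => by simp)
  let P : QuadraticForm F (K × K) := LinearMap.BilinMap.toQuadraticMap B
  have hP : ∀ x, P x = Algebra.trace F K (x.1 * x.2) := fun x => rfl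
  have hpol : ∀ x y, polar (⇑P) x y = Algebra.trace F K (x.1 * y.2) + Algebra.trace F K (y.1 * x.2) := fun x y => by
    simp only [polar, hP, Prod.fst_add, Prod.snd_add, add_mul, mul_add, map_add]; ring
  have hPnd : (polarBilin P).Nondegenerate := by
    have h1 : ∀ x, (∀ y, polar (⇑P) x y = 0) → x = 0 := fun x hx => by
      refine Prod.ext ((traceForm_nondegenerate F K).1 _ fun y => ?_) ((traceForm_nondegenerate F K).1 _ fun y => ?_)
      · have := hx (0, y)
        rw [hpol] at this
        simpa using this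
      · have := hx (y, 0)
        rw [hpol] at this
        simpa [mul_comm] using this
    exact ⟨h1, fun x hx => h1 x fun y => by rw [QuadraticMap.polar_comm]; exact hx y⟩
  obtain ⟨l, hl⟩ := exists_unit_order (K := K) (N := Fintype.card F ^ d - 1) (by rw [hKc])
  let a : (K × K) ≃ₗ[F] (K × K) :=
    LinearEquiv.ofBijective ((LinearMap.mulLeft F (l : K)).prodMap (LinearMap.mulLeft F ((l : K)⁻¹)))
      ⟨fun x y h => Prod.ext (mul_left_cancel₀ l.ne_zero (congrArg Prod.fst h))
          (mul_left_cancel₀ (inv_ne_zero l.ne_zero) (congrArg Prod.snd h)),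
        fun y => ⟨((l : K)⁻¹ * y.1, (l : K) * y.2), by simp [← mul_assoc]⟩⟩
  have hpow := linEquiv_pow a (fun k v => ((l : K) ^ k * v.1, ((l : K) ^ k)⁻¹ * v.2)) (fun v => by simp) (fun k v => by
    refine Prod.ext ?_ ?_
    · show _ = (l : K) * ((l : K) ^ k * v.1); ring
    · show _ = (l : K)⁻¹ * (((l : K) ^ k)⁻¹ * v.2); rw [pow_succ, mul_inv]; ring)
  have hl1 : (l : K) ^ (Fintype.card F ^ d - 1) = 1 := by
    rw [← Units.val_pow_eq_pow_val, ← hl, pow_orderOf_eq_one]; rfl
  obtain ⟨R, g, hR, hg, hdet, ⟨c, hc, hspin⟩, hplus⟩ := torus_of_action h2 P hPnd hd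
    (by rw [Module.finrank_prod, hKd]; ring) a
    (fun x => by
      show P ((l : K) * x.1, (l : K)⁻¹ * x.2) = P x
      rw [hP, hP]
      congr 1
      field_simp)
    (N := Fintype.card F ^ d - 1) (LinearEquiv.ext fun x => by rw [hpow, hl1]; simp) hev
    (fun k v hv hk => hl ▸ orderOf_dvd_of_pow_eq_one (Units.ext (by
      rw [hpow] at hk
      rw [Units.val_pow_eq_pow_val, Units.val_one]
      by_cases h : v.1 = 0
      · have h' : v.2 ≠ 0 := fun h' => hv (Prod.ext h h')
        exact inv_eq_one.1 (mul_right_cancel₀ h' ((congrArg Prod.snd hk).trans (one_mul v.2).symm))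
      · exact mul_right_cancel₀ h ((congrArg Prod.fst hk).trans (one_mul v.1).symm)))) (by omega)
  have hp : IsPlus R d := hplus (LinearMap.range (LinearMap.inl F K K)) (by
      rintro _ ⟨x, rfl⟩
      simp [hP])
    (by rw [LinearMap.finrank_range_of_inj LinearMap.inl_injective, hKd])
  have hcard := card_sphere hR hd (by simp)
  replace hcard := hcard.1 hp
  rw [hc, mul_comm, mul_right_cancel_iff_of_pos (by omega : 0 < Fintype.card F ^ d - 1)] at hcard
  exact ⟨R, g, hR, hg, hdet, by rw [hspin, hcard, hodd.neg_one_pow], hp⟩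

end Field

end Cfsg.Lib.SpectrumNine
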