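import Mathlib

/-! Weighted eigenvalue classes under the Frobenius power and inversion, of total weight at most eight. -/

set_option autoImplicit false
set_option linter.style.haveILetI false
set_option linter.unusedSectionVars false

namespace Cfsg.Lib.SpectrumNine

universe u

/-- A multiplicity function closed under the power `q` and inversion, of total weight at most eight. -/
structure Weights (K : Type u) [Field K] where
  q : ℕ
  hq : Odd q
  hq3 : 3 ≤ q
  inj : Function.Injective fun x : K => x ^ q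
  two : (2 : K) ≠ 0
  d : K → ℕ
  frob : ∀ z, d z ≤ d (z ^ q)
  inv : ∀ z, d z ≤ d z⁻¹
  one : d 1 = 0
  zero : d 0 = 0
  sum : ∀ S : Finset K, ∑ z ∈ S, d z ≤ 8

namespace Weights

variable {K : Type u} [Field K] (W : Weights K)

/-- A class of eigenvalues. -/
structure Cls (W : Weights K) (z : K) where
  C : Finset K
  D : ℕ
  pos : 0 < W.d z
  hD : 1 ≤ D
  card : C.card = 2 * D
  mem : z ∈ C
  wt : ∀ w ∈ C, W.d w = W.d z
  ne : ∀ w ∈ C, w ≠ -1
  clo : ∀ w ∈ C, w ^ W.q ∈ C ∧ w⁻¹ ∈ C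
  gen : ∀ w ∈ C, ∃ i, w = z ^ W.q ^ i ∨ w⁻¹ = z ^ W.q ^ i
  kind : (∀ w ∈ C, w ^ (W.q ^ D - 1) = 1) ∨ (∀ w ∈ C, w ^ (W.q ^ D + 1) = 1)

theorem finite_support : {z : K | 0 < W.d z}.Finite := by
  by_contra hinf
  obtain ⟨S, hS, hcard⟩ := Set.Infinite.exists_subset_card_eq hinf 9
  have := W.sum S
  have h9 : ∑ z ∈ S, 1 ≤ ∑ z ∈ S, W.d z := Finset.sum_le_sum fun z hz => hS hz
  simp only [Finset.sum_const, hcard, smul_eq_mul, mul_one] at h9
  omega

theorem d_pow_iter (z : K) : ∀ i, W.d z ≤ W.d (z ^ W.q ^ i) := fun i => by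
  induction i with
  | zero => simp
  | succ i ih => rw [pow_succ, pow_mul]; exact ih.trans (W.frob _)

theorem exists_period {z : K} (hz : 0 < W.d z) : ∃ P, 0 < P ∧ z ^ W.q ^ P = z := by
  have hfin := W.finite_support
  let R := {z : K | 0 < W.d z}
  haveI : Finite R := hfin.to_subtype
  let f : R → R := fun x => ⟨x.1 ^ W.q, Nat.lt_of_lt_of_le x.2 (W.frob _)⟩
  have hinj : Function.Injective f := fun x y h => Subtype.ext (W.inj (congrArg Subtype.val h))
  obtain ⟨P, hP, hper⟩ := hinj.mem_periodicPts ⟨z, hz⟩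
  refine ⟨P, hP, ?_⟩
  have key : ∀ i, ((f^[i]) ⟨z, hz⟩).1 = z ^ W.q ^ i := fun i => by
    induction i with
    | zero => simp
    | succ i ih => rw [Function.iterate_succ', Function.comp_apply, pow_succ, pow_mul, ← ih]
  rw [← key P, hper]

theorem ne_zero_of_pos {z : K} (hz : 0 < W.d z) : z ≠ 0 := fun h => by rw [h, W.zero] at hz; omega

theorem pow_iter_inj : ∀ i, Function.Injective fun x : K => x ^ W.q ^ i := fun i => by
  induction i with
  | zero => intro x y h; simpa using h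
  | succ i ih =>
    intro x y h
    simp only [pow_succ, pow_mul] at h
    exact ih (W.inj h)

theorem exists_cls {z : K} (hz : 0 < W.d z) (hz1 : z ≠ -1) : Nonempty (Cls W z) := by
  classical
  have hz0 := W.ne_zero_of_pos hz
  obtain ⟨P0, hP0, hper0⟩ := W.exists_period hz
  have hex : ∃ P, 0 < P ∧ z ^ W.q ^ P = z := ⟨P0, hP0, hper0⟩
  obtain ⟨hP, hper⟩ := Nat.find_spec hex
  set P := Nat.find hex
  have hmod : ∀ i, z ^ W.q ^ i = z ^ W.q ^ (i % P) := by
    intro i
    conv_lhs => rw [← Nat.div_add_mod i P, pow_add, pow_mul]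
    congr 1
    induction i / P with
    | zero => simp
    | succ j ih => rw [Nat.mul_succ, pow_add, pow_mul, ih, hper]
  have horb : ∀ i j, i < P → j < P → z ^ W.q ^ i = z ^ W.q ^ j → i = j := by
    intro i j hi hj h
    by_contra hne
    rcases Nat.lt_or_gt_of_ne hne with hlt | hlt
    · obtain ⟨k, rfl⟩ := Nat.exists_eq_add_of_lt hlt
      refine Nat.find_min hex (m := k + 1) (by omega) ⟨by omega, W.pow_iter_inj i ?_⟩
      show (z ^ W.q ^ (k + 1)) ^ W.q ^ i = z ^ W.q ^ i
      rw [← pow_mul, ← pow_add, h]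
      congr 2; omega
    · obtain ⟨k, rfl⟩ := Nat.exists_eq_add_of_lt hlt
      refine Nat.find_min hex (m := k + 1) (by omega) ⟨by omega, W.pow_iter_inj j ?_⟩
      show (z ^ W.q ^ (k + 1)) ^ W.q ^ j = z ^ W.q ^ j
      rw [← pow_mul, ← pow_add, ← h]
      congr 2; omega
  let O := (Finset.range P).image fun i => z ^ W.q ^ i
  have hOc : O.card = P := by
    rw [Finset.card_image_of_injOn, Finset.card_range]
    exact fun i hi j hj h => horb i j (Finset.mem_range.1 hi) (Finset.mem_range.1 hj) h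
  have hO : ∀ i, z ^ W.q ^ i ∈ O := fun i =>
    Finset.mem_image.2 ⟨i % P, Finset.mem_range.2 (Nat.mod_lt _ hP), (hmod i).symm⟩
  have hinvpow : ∀ i, (z⁻¹) ^ W.q ^ i = (z ^ W.q ^ i)⁻¹ := fun i => inv_pow z _
  let C := O ∪ O.image (·⁻¹)
  have hgen : ∀ w ∈ C, ∃ i, w = z ^ W.q ^ i ∨ w⁻¹ = z ^ W.q ^ i := by
    intro w hw
    rcases Finset.mem_union.1 hw with h | h
    · obtain ⟨i, -, rfl⟩ := Finset.mem_image.1 h; exact ⟨i, Or.inl rfl⟩
    · obtain ⟨v, hv, rfl⟩ := Finset.mem_image.1 h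
      obtain ⟨i, -, rfl⟩ := Finset.mem_image.1 hv; exact ⟨i, Or.inr (inv_inv _)⟩
  have hgen' : ∀ i, z ^ W.q ^ i ∈ C ∧ (z ^ W.q ^ i)⁻¹ ∈ C := fun i =>
    ⟨Finset.mem_union_left _ (hO i), Finset.mem_union_right _ (Finset.mem_image_of_mem _ (hO i))⟩
  have hdeq : ∀ i, W.d (z ^ W.q ^ i) = W.d z := fun i => by
    refine le_antisymm ?_ (W.d_pow_iter z i)
    have h1 := W.d_pow_iter (z ^ W.q ^ i) (P * (i + 1) - i)
    rw [← pow_mul, ← pow_add, show i + (P * (i + 1) - i) = P * (i + 1) by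
      have := Nat.le_mul_of_pos_left (i + 1) hP; omega, hmod (P * (i + 1)), Nat.mul_mod_right, pow_zero, pow_one] at h1
    exact h1
  have hdinv : ∀ w, W.d w⁻¹ = W.d w := fun w => le_antisymm (by simpa using W.inv w⁻¹) (W.inv w)
  have hwt : ∀ w ∈ C, W.d w = W.d z := fun w hw => by
    obtain ⟨i, h | h⟩ := hgen w hw
    · rw [h, hdeq]
    · rw [← hdinv, h, hdeq]
  have hne : ∀ w ∈ C, w ≠ -1 := fun w hw hw1 => by
    have h1 : ∀ i, z ^ W.q ^ i = -1 → False := fun i h => hz1 (W.pow_iter_inj i (by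
      show z ^ W.q ^ i = (-1) ^ W.q ^ i
      rw [h, (W.hq.pow).neg_one_pow]))
    obtain ⟨i, h | h⟩ := hgen w hw
    · exact h1 i (h ▸ hw1)
    · exact h1 i (by rw [← h, hw1, inv_neg, inv_one])
  have hclo : ∀ w ∈ C, w ^ W.q ∈ C ∧ w⁻¹ ∈ C := fun w hw => by
    obtain ⟨i, h | h⟩ := hgen w hw
    · exact ⟨by rw [h, ← pow_mul, ← pow_succ]; exact (hgen' _).1, by rw [h]; exact (hgen' _).2⟩
    · refine ⟨?_, by rw [h]; exact (hgen' _).1⟩
      rw [inv_eq_iff_eq_inv.1 h, inv_pow, ← pow_mul, ← pow_succ]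
      exact (hgen' _).2
  have hzC : z ∈ C := by simpa using (hgen' 0).1
  by_cases hsd : ∃ i, i < P ∧ z ^ W.q ^ i = z⁻¹
  · obtain ⟨i, hi, hiz⟩ := hsd
    have h2i : z ^ W.q ^ (i + i) = z := by rw [pow_add, pow_mul, hiz, inv_pow, hiz, inv_inv]
    have hi0 : i ≠ 0 := fun h => by
      subst h
      rw [pow_zero, pow_one] at hiz
      have : z * z = 1 := by nth_rw 2 [hiz]; exact mul_inv_cancel₀ hz0
      rcases mul_self_eq_one_iff.1 this with h | h
      · rw [h, W.one] at hz; omega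
      · exact hz1 h
    have hP2 : P = 2 * i := by
      have h0 := hmod (i + i)
      rw [h2i] at h0
      have := horb 0 ((i + i) % P) hP (Nat.mod_lt _ hP) (by simpa using h0)
      rcases Nat.lt_or_ge (i + i) P with h | h
      · rw [Nat.mod_eq_of_lt h] at this; omega
      · rw [Nat.mod_eq_sub_mod h, Nat.mod_eq_of_lt (by omega)] at this; omega
    have hCO : C = O := by
      refine Finset.union_eq_left.2 fun w hw => ?_
      obtain ⟨v, hv, rfl⟩ := Finset.mem_image.1 hw
      obtain ⟨j, -, rfl⟩ := Finset.mem_image.1 hv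
      have : (z ^ W.q ^ j)⁻¹ = z ^ W.q ^ (i + j) := by rw [pow_add, pow_mul, hiz, inv_pow]
      rw [this]
      exact hO _
    refine ⟨⟨C, i, hz, by omega, by rw [hCO, hOc, hP2], hzC, hwt, hne, hclo, hgen, Or.inr fun w hw => ?_⟩⟩
    have hzp : z ^ (W.q ^ i + 1) = 1 := by rw [pow_succ, hiz, inv_mul_cancel₀ hz0]
    obtain ⟨j, h | h⟩ := hgen w hw
    · rw [h, ← pow_mul, mul_comm, pow_mul, hzp, one_pow]
    · rw [inv_eq_iff_eq_inv.1 h, inv_pow, ← pow_mul, mul_comm, pow_mul, hzp, one_pow, inv_one]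
  · push Not at hsd
    have hno : ∀ i, z ^ W.q ^ i ≠ z⁻¹ := fun i => by rw [hmod]; exact hsd _ (Nat.mod_lt _ hP)
    have hdis : Disjoint O (O.image (·⁻¹)) := by
      rw [Finset.disjoint_left]
      intro w hw hw'
      obtain ⟨v, hv, hvw⟩ := Finset.mem_image.1 hw'
      obtain ⟨i, hi, rfl⟩ := Finset.mem_image.1 hw
      obtain ⟨j, hj, rfl⟩ := Finset.mem_image.1 hv
      refine hno (i + (P - j)) ?_
      rw [pow_add, pow_mul, ← hvw, inv_pow, ← pow_mul, ← pow_add, Nat.add_sub_cancel' (Finset.mem_range.1 hj).le, hper]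
    refine ⟨⟨C, P, hz, hP, by
      rw [Finset.card_union_of_disjoint hdis, Finset.card_image_of_injective _ inv_injective, hOc]; ring,
      hzC, hwt, hne, hclo, hgen, Or.inl fun w hw => ?_⟩⟩
    have hzp : z ^ (W.q ^ P - 1) = 1 := by
      have h1 : z ^ (W.q ^ P - 1) * z = 1 * z := by
        rw [← pow_succ, Nat.sub_add_cancel (Nat.one_le_pow _ _ (by have := W.hq3; omega)), hper, one_mul]
      exact mul_right_cancel₀ hz0 h1
    obtain ⟨j, h | h⟩ := hgen w hw
    · rw [h, ← pow_mul, mul_comm, pow_mul, hzp, one_pow]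
    · rw [inv_eq_iff_eq_inv.1 h, inv_pow, ← pow_mul, mul_comm, pow_mul, hzp, one_pow, inv_one]

variable {W}

/-- Closed sets absorb classes which meet them. -/
theorem Cls.disjoint {z w : K} (c : Cls W z) (c' : Cls W w) (hw : w ∉ c.C) : Disjoint c.C c'.C := by
  rw [Finset.disjoint_left]
  intro v hv hv'
  refine hw ?_
  have hcl : ∀ i x, x ∈ c.C → x ^ W.q ^ i ∈ c.C := fun i => by
    induction i with
    | zero => intro x hx; simpa using hx
    | succ i ih => intro x hx; rw [pow_succ, pow_mul]; exact (c.clo _ (ih x hx)).1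
  have hw0 : 0 < W.d w := by
    have := c.wt v hv
    have := c'.wt v hv'
    have := c.pos
    omega
  obtain ⟨P, hP, hper⟩ := W.exists_period hw0
  obtain ⟨i, h⟩ := c'.gen v hv'
  have hmul : ∀ j, w ^ W.q ^ (P * j) = w := fun j => by
    induction j with
    | zero => simp
    | succ j ih => rw [Nat.mul_succ, pow_add, pow_mul, ih, hper]
  have hx : w ^ W.q ^ i ∈ c.C := by
    rcases h with h | h
    · exact h ▸ hv
    · exact h ▸ (c.clo v hv).2
  have h3 := hcl (P * (i + 1) - i) _ hx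
  rwa [← pow_mul, ← pow_add, show i + (P * (i + 1) - i) = P * (i + 1) by
      have := Nat.le_mul_of_pos_left (i + 1) hP; omega, hmul] at h3

theorem Cls.weight {z : K} (c : Cls W z) : ∑ w ∈ c.C, W.d w = 2 * c.D * W.d z := by
  rw [Finset.sum_congr rfl c.wt, Finset.sum_const, c.card, smul_eq_mul]

theorem Cls.le {z : K} (c : Cls W z) : 2 * c.D * W.d z ≤ 8 := c.weight ▸ W.sum _

theorem Cls.le_two {z w : K} (c : Cls W z) (c' : Cls W w) (hw : w ∉ c.C) :
    2 * c.D * W.d z + 2 * c'.D * W.d w ≤ 8 := by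
  classical
  rw [← c.weight, ← c'.weight, ← Finset.sum_union (c.disjoint c' hw)]
  exact W.sum _

theorem Cls.le_three {z w v : K} (c : Cls W z) (c' : Cls W w) (c'' : Cls W v) (hw : w ∉ c.C) (hv : v ∉ c.C)
    (hv' : v ∉ c'.C) : 2 * c.D * W.d z + 2 * c'.D * W.d w + 2 * c''.D * W.d v ≤ 8 := by
  classical
  rw [← c.weight, ← c'.weight, ← c''.weight, ← Finset.sum_union (c.disjoint c' hw), ← Finset.sum_union ?_]
  · exact W.sum _
  · exact Finset.disjoint_union_left.2 ⟨c.disjoint c'' hv, c'.disjoint c'' hv'⟩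

theorem Cls.le_neg {z : K} (c : Cls W z) : 2 * c.D * W.d z + W.d (-1) ≤ 8 := by
  classical
  rw [← c.weight, ← Finset.sum_singleton W.d (-1 : K), ← Finset.sum_union ?_]
  · exact W.sum _
  · rw [Finset.disjoint_singleton_right]; exact fun h => c.ne _ h rfl

theorem Cls.le_two_neg {z w : K} (c : Cls W z) (c' : Cls W w) (hw : w ∉ c.C) :
    2 * c.D * W.d z + 2 * c'.D * W.d w + W.d (-1) ≤ 8 := by
  classical
  rw [← c.weight, ← c'.weight, ← Finset.sum_union (c.disjoint c' hw), ← Finset.sum_singleton W.d (-1 : K),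
    ← Finset.sum_union ?_]
  · exact W.sum _
  · rw [Finset.disjoint_singleton_right, Finset.mem_union]
    rintro (h | h)
    · exact c.ne _ h rfl
    · exact c'.ne _ h rfl

theorem d_neg_one_le (W : Weights K) : W.d (-1) ≤ 8 := by simpa using W.sum {-1}

variable (W)

/-- All eigenvalues are killed by `M`. -/
def Kills (M : ℕ) : Prop := ∀ z, 0 < W.d z → z ^ M = 1

theorem q_even : 2 ∣ W.q - 1 ∧ 2 ∣ W.q + 1 ∧ 2 ∣ W.q ^ 2 - 1 := by
  obtain ⟨k, hk⟩ := W.hq
  refine ⟨⟨k, by omega⟩, ⟨k + 1, by omega⟩, ⟨2 * (k * k + k), ?_⟩⟩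
  rw [hk, show (2 * k + 1) ^ 2 = 2 * (2 * (k * k + k)) + 1 by ring, Nat.add_sub_cancel]

theorem q2_dvd : W.q - 1 ∣ W.q ^ 2 - 1 ∧ W.q + 1 ∣ W.q ^ 2 - 1 := by
  have e : W.q ^ 2 - 1 = (W.q + 1) * (W.q - 1) := by simpa using Nat.sq_sub_sq W.q 1
  exact ⟨e ▸ dvd_mul_left _ _, e ▸ dvd_mul_right _ _⟩

theorem half_dvd : 2 ∣ (W.q ^ 4 - 1) / 2 ∧ W.q ^ 2 - 1 ∣ (W.q ^ 4 - 1) / 2 ∧ W.q ^ 2 + 1 ∣ (W.q ^ 4 - 1) / 2 := by
  obtain ⟨k, hk⟩ := W.hq
  have e : W.q ^ 4 - 1 = (W.q ^ 2 + 1) * (W.q ^ 2 - 1) := by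
    rw [show W.q ^ 4 = (W.q ^ 2) ^ 2 by ring]; simpa using Nat.sq_sub_sq (W.q ^ 2) 1
  have e1 : W.q ^ 2 + 1 = 2 * (2 * (k * k + k) + 1) := by rw [hk]; ring
  have e2 : W.q ^ 2 - 1 = 2 * (2 * (k * k + k)) := by
    rw [hk, show (2 * k + 1) ^ 2 = 2 * (2 * (k * k + k)) + 1 by ring, Nat.add_sub_cancel]
  rw [e]
  refine ⟨?_, ?_, ?_⟩
  · rw [e1, mul_assoc, Nat.mul_div_cancel_left _ two_pos, e2]; exact Dvd.dvd.mul_left (dvd_mul_right _ _) _
  · rw [e1, mul_assoc, Nat.mul_div_cancel_left _ two_pos]; exact dvd_mul_left _ _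
  · rw [e2, mul_left_comm, Nat.mul_div_cancel_left _ two_pos]; exact dvd_mul_right _ _

theorem pow_dvd_one {w : K} {a b : ℕ} (h : w ^ a = 1) (hab : a ∣ b) : w ^ b = 1 := by
  obtain ⟨c, rfl⟩ := hab; rw [pow_mul, h, one_pow]

theorem neg_one_kill {M : ℕ} (h : 2 ∣ M) : (-1 : K) ^ M = 1 := pow_dvd_one neg_one_sq h

/-- The eigenvalues of a semisimple element: one full class or three possible exponents. -/
theorem semisimple_cases :
    (∀ w v, 0 < W.d w → 0 < W.d v → ∀ M, w ^ M = 1 → v ^ M = 1) ∨ W.Kills ((W.q ^ 4 - 1) / 2) ∨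
      W.Kills (Nat.lcm (W.q ^ 3 - 1) (W.q + 1)) ∨ W.Kills (Nat.lcm (W.q ^ 3 + 1) (W.q - 1)) := by
  obtain ⟨hh2, hh1, hh3⟩ := W.half_dvd
  by_cases hbig : ∃ z, 0 < W.d z ∧ z ≠ -1 ∧ ∃ c : Cls W z, 3 ≤ c.D
  · obtain ⟨z, hz, hz1, c, hc⟩ := hbig
    have hcz := c.le
    have hmul : 2 * c.D ≤ 2 * c.D * W.d z := Nat.le_mul_of_pos_right _ hz
    rcases (show c.D = 3 ∨ c.D = 4 by omega) with h3 | h4
    · have hout : ∀ w, 0 < W.d w → w ∉ c.C → w = -1 ∨ ∃ c' : Cls W w, c'.D = 1 := by
        intro w hw hwc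
        by_cases hw1 : w = -1
        · exact Or.inl hw1
        obtain ⟨c'⟩ := W.exists_cls hw hw1
        have h1 := c.le_two c' hwc
        have h2 := c'.hD
        have h4 : 2 * c'.D ≤ 2 * c'.D * W.d w := Nat.le_mul_of_pos_right _ hw
        exact Or.inr ⟨c', by omega⟩
      have hq3 : W.q - 1 ∣ W.q ^ 3 - 1 := by simpa using Nat.sub_dvd_pow_sub_pow W.q 1 3
      have hq3' : W.q + 1 ∣ W.q ^ 3 + 1 := by simpa using Odd.nat_add_dvd_pow_add_pow W.q 1 (⟨1, rfl⟩ : Odd 3)
      by_cases hw : ∃ w, 0 < W.d w ∧ w ∉ c.C ∧ w ≠ -1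
      · obtain ⟨w, hw, hwc, hw1⟩ := hw
        obtain ⟨c', hc'⟩ := (hout w hw hwc).resolve_left hw1
        have hall : ∀ v, 0 < W.d v → v ∈ c.C ∨ v ∈ c'.C := by
          intro v hv
          by_contra hcon
          push Not at hcon
          by_cases hv1 : v = -1
          · subst hv1
            have := c.le_two_neg c' hwc
            rw [hc', h3] at this
            rw [h3] at hmul
            omega
          obtain ⟨c''⟩ := W.exists_cls hv hv1
          have := c.le_three c' c'' hwc hcon.1 hcon.2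
          have := c''.hD
          have : 2 * c''.D ≤ 2 * c''.D * W.d v := Nat.le_mul_of_pos_right _ hv
          rw [hc'] at *
          rw [h3] at *
          omega
        rcases c.kind with hk | hk <;> rw [h3] at hk <;> rcases c'.kind with hk' | hk' <;> rw [hc', pow_one] at hk'
        · right; right; left
          intro v hv
          rcases hall v hv with h | h
          · exact pow_dvd_one (hk v h) (Nat.dvd_lcm_left _ _)
          · exact pow_dvd_one (hk' v h) (hq3.trans (Nat.dvd_lcm_left _ _))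
        · right; right; left
          intro v hv
          rcases hall v hv with h | h
          · exact pow_dvd_one (hk v h) (Nat.dvd_lcm_left _ _)
          · exact pow_dvd_one (hk' v h) (Nat.dvd_lcm_right _ _)
        · right; right; right
          intro v hv
          rcases hall v hv with h | h
          · exact pow_dvd_one (hk v h) (Nat.dvd_lcm_left _ _)
          · exact pow_dvd_one (hk' v h) (Nat.dvd_lcm_right _ _)
        · right; right; right
          intro v hv
          rcases hall v hv with h | h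
          · exact pow_dvd_one (hk v h) (Nat.dvd_lcm_left _ _)
          · exact pow_dvd_one (hk' v h) (hq3'.trans (Nat.dvd_lcm_left _ _))
      · push Not at hw
        rcases c.kind with hk | hk <;> rw [h3] at hk
        · right; right; left
          intro v hv
          by_cases h : v ∈ c.C
          · exact pow_dvd_one (hk v h) (Nat.dvd_lcm_left _ _)
          · rw [hw v hv h]; exact neg_one_kill (W.q_even.2.1.trans (Nat.dvd_lcm_right _ _))
        · right; right; right
          intro v hv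
          by_cases h : v ∈ c.C
          · exact pow_dvd_one (hk v h) (Nat.dvd_lcm_left _ _)
          · rw [hw v hv h]; exact neg_one_kill (W.q_even.1.trans (Nat.dvd_lcm_right _ _))
    · refine Or.inl fun w' w hw' hw M hM' => ?_
      have hall : ∀ w, 0 < W.d w → w ∈ c.C := by
        intro w hw
        by_contra hwc
        by_cases hw1 : w = -1
        · subst hw1; have := c.le_neg; rw [h4] at this hmul; omega
        obtain ⟨c'⟩ := W.exists_cls hw hw1
        have := c.le_two c' hwc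
        have := c'.hD
        have : 2 * c'.D ≤ 2 * c'.D * W.d w := Nat.le_mul_of_pos_right _ hw
        rw [h4] at *
        omega
      have hM : z ^ M = 1 := by
        obtain ⟨i, h | h⟩ := c.gen w' (hall w' hw')
        · refine W.pow_iter_inj i ?_
          show (z ^ M) ^ W.q ^ i = 1 ^ W.q ^ i
          rw [← pow_mul, mul_comm, pow_mul, ← h, hM', one_pow]
        · refine W.pow_iter_inj i ?_
          show (z ^ M) ^ W.q ^ i = 1 ^ W.q ^ i
          rw [← pow_mul, mul_comm, pow_mul, ← h, inv_pow, hM', inv_one, one_pow]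
      obtain ⟨i, h | h⟩ := c.gen w (hall w hw)
      · rw [h, ← pow_mul, mul_comm, pow_mul, hM, one_pow]
      · rw [inv_eq_iff_eq_inv.1 h, inv_pow, ← pow_mul, mul_comm, pow_mul, hM, one_pow, inv_one]
  · refine Or.inr (Or.inl fun v hv => ?_)
    by_cases hv1 : v = -1
    · rw [hv1]; exact neg_one_kill hh2
    obtain ⟨c⟩ := W.exists_cls hv hv1
    have hD : c.D ≤ 2 := by
      by_contra h; exact hbig ⟨v, hv, hv1, c, by omega⟩
    have hD1 := c.hD
    rcases c.kind with hk | hk <;> rcases (show c.D = 1 ∨ c.D = 2 by omega) with h | h <;> rw [h] at hk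
    · rw [pow_one] at hk; exact pow_dvd_one (hk v c.mem) (W.q2_dvd.1.trans hh1)
    · exact pow_dvd_one (hk v c.mem) hh1
    · rw [pow_one] at hk; exact pow_dvd_one (hk v c.mem) (W.q2_dvd.2.trans hh1)
    · exact pow_dvd_one (hk v c.mem) hh3

/-- A repeated eigenvalue other than `-1`, or three times `-1`. -/
def Rep (k : ℕ) : Prop := (∃ z, z ≠ -1 ∧ k < W.d z) ∨ k + 2 ≤ W.d (-1)

theorem repeated_cases (h : W.Rep 1) :
    W.Kills (Nat.lcm (W.q ^ 2 + 1) (W.q - 1)) ∨ W.Kills (Nat.lcm (W.q ^ 2 + 1) (W.q + 1)) ∨ W.Kills (W.q ^ 2 - 1) := by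
  obtain ⟨e1, e2⟩ := W.q2_dvd
  have hD2 : ∀ z, 0 < W.d z → z ≠ -1 → ∀ c : Cls W z, c.D ≤ 2 := by
    intro z hz hz1 c
    by_contra hc
    have hm : 2 * c.D ≤ 2 * c.D * W.d z := Nat.le_mul_of_pos_right _ hz
    rcases h with ⟨w, hw1, hw⟩ | hn
    · by_cases hwc : w ∈ c.C
      · have h1 := c.le
        rw [← c.wt w hwc] at h1
        have : 2 * c.D * 2 ≤ 2 * c.D * W.d w := Nat.mul_le_mul_left _ hw
        omega
      obtain ⟨c'⟩ := W.exists_cls (by omega : 0 < W.d w) hw1
      have h1 := c.le_two c' hwc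
      have := c'.hD
      have : 2 * c'.D * 2 ≤ 2 * c'.D * W.d w := Nat.mul_le_mul_left _ hw
      omega
    · have := c.le_neg; omega
  by_cases hm : ∀ z, 0 < W.d z → z ≠ -1 → z ^ (W.q ^ 2 - 1) = 1
  · refine Or.inr (Or.inr fun v hv => ?_)
    by_cases hv1 : v = -1
    · rw [hv1]; exact neg_one_kill W.q_even.2.2
    · exact hm v hv hv1
  push Not at hm
  obtain ⟨z, hz, hz1, hzn⟩ := hm
  obtain ⟨c⟩ := W.exists_cls hz hz1
  have hc2 := hD2 z hz hz1 c
  have hc1 := c.hD
  have hcD : c.D = 2 ∧ ∀ w ∈ c.C, w ^ (W.q ^ 2 + 1) = 1 := by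
    rcases c.kind with hk | hk <;> rcases (show c.D = 1 ∨ c.D = 2 by omega) with h' | h' <;> rw [h'] at hk
    · rw [pow_one] at hk; exact absurd (pow_dvd_one (hk z c.mem) e1) hzn
    · exact absurd (hk z c.mem) hzn
    · rw [pow_one] at hk; exact absurd (pow_dvd_one (hk z c.mem) e2) hzn
    · exact ⟨h', hk⟩
  obtain ⟨hcD, hk⟩ := hcD
  have hkC : ∀ M, W.q ^ 2 + 1 ∣ M → ∀ w ∈ c.C, w ^ M = 1 := fun M hM w hw => pow_dvd_one (hk w hw) hM
  have hcle := c.le
  rw [hcD] at hcle
  rcases Nat.lt_or_ge 1 (W.d z) with hdz | hdz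
  · refine Or.inl fun v hv => ?_
    by_cases hv' : v ∈ c.C
    · exact hkC _ (Nat.dvd_lcm_left _ _) v hv'
    exfalso
    by_cases hv1 : v = -1
    · subst hv1; have := c.le_neg; rw [hcD] at this; omega
    obtain ⟨c'⟩ := W.exists_cls hv hv1
    have h1 := c.le_two c' hv'
    have := c'.hD
    have : 2 * c'.D ≤ 2 * c'.D * W.d v := Nat.le_mul_of_pos_right _ hv
    rw [hcD] at h1
    omega
  rcases h with ⟨w, hw1, hw⟩ | hn
  · have hwc : w ∉ c.C := fun hwc => by have := c.wt w hwc; omega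
    obtain ⟨c'⟩ := W.exists_cls (by omega : 0 < W.d w) hw1
    have h1 := c.le_two c' hwc
    have := c'.hD
    have : 2 * c'.D * 2 ≤ 2 * c'.D * W.d w := Nat.mul_le_mul_left _ hw
    rw [hcD] at h1
    have hc' : c'.D = 1 := by omega
    have hall : ∀ v, 0 < W.d v → v ∈ c.C ∨ v ∈ c'.C := by
      intro v hv
      by_contra hcon
      push Not at hcon
      by_cases hv1 : v = -1
      · subst hv1
        have := c.le_two_neg c' hwc
        rw [hcD, hc'] at this
        omega
      obtain ⟨c''⟩ := W.exists_cls hv hv1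
      have := c.le_three c' c'' hwc hcon.1 hcon.2
      have := c''.hD
      have : 2 * c''.D ≤ 2 * c''.D * W.d v := Nat.le_mul_of_pos_right _ hv
      rw [hcD, hc'] at *
      omega
    rcases c'.kind with hk' | hk' <;> rw [hc', pow_one] at hk'
    · refine Or.inl fun v hv => ?_
      rcases hall v hv with h | h
      · exact hkC _ (Nat.dvd_lcm_left _ _) v h
      · exact pow_dvd_one (hk' v h) (Nat.dvd_lcm_right _ _)
    · refine Or.inr (Or.inl fun v hv => ?_)
      rcases hall v hv with h | h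
      · exact hkC _ (Nat.dvd_lcm_left _ _) v h
      · exact pow_dvd_one (hk' v h) (Nat.dvd_lcm_right _ _)
  · refine Or.inl fun v hv => ?_
    by_cases hv' : v ∈ c.C
    · exact hkC _ (Nat.dvd_lcm_left _ _) v hv'
    by_cases hv1 : v = -1
    · rw [hv1]; exact neg_one_kill (W.q_even.1.trans (Nat.dvd_lcm_right _ _))
    exfalso
    obtain ⟨c'⟩ := W.exists_cls hv hv1
    have h1 := c.le_two_neg c' hv'
    have := c'.hD
    have : 2 * c'.D ≤ 2 * c'.D * W.d v := Nat.le_mul_of_pos_right _ hv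
    rw [hcD] at h1
    omega

/-- Very large multiplicities. -/
theorem high_cases {p : ℕ} (hp : 3 ≤ p) (hpo : Odd p) (h : W.Rep p) :
    (p = 3 ∧ (W.Kills (W.q - 1) ∨ W.Kills (W.q + 1))) ∨ (p = 5 ∧ W.Kills 2) := by
  rcases h with ⟨z, hz1, hz⟩ | hn
  · obtain ⟨c⟩ := W.exists_cls (by omega : 0 < W.d z) hz1
    have h1 := c.le
    have := c.hD
    have h2 : 2 * c.D * (p + 1) ≤ 2 * c.D * W.d z := Nat.mul_le_mul_left _ hz
    have hD : c.D = 1 := by nlinarith
    rw [hD] at h1 h2
    refine Or.inl ⟨by omega, ?_⟩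
    have hall : ∀ v, 0 < W.d v → v ∈ c.C := by
      intro v hv
      by_contra hvc
      by_cases hv1 : v = -1
      · subst hv1; have := c.le_neg; rw [hD] at this; omega
      obtain ⟨c'⟩ := W.exists_cls hv hv1
      have h3 := c.le_two c' hvc
      have := c'.hD
      have : 2 * c'.D ≤ 2 * c'.D * W.d v := Nat.le_mul_of_pos_right _ hv
      rw [hD] at h3
      omega
    rcases c.kind with hk | hk <;> rw [hD, pow_one] at hk
    · exact Or.inl fun v hv => hk v (hall v hv)
    · exact Or.inr fun v hv => hk v (hall v hv)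
  · have h8 := W.d_neg_one_le
    obtain ⟨k, hk⟩ := hpo
    rcases (show p = 3 ∨ p = 5 by omega) with rfl | rfl
    · refine Or.inl ⟨rfl, ?_⟩
      by_cases hw : ∃ w, 0 < W.d w ∧ w ≠ -1
      · obtain ⟨w, hw, hw1⟩ := hw
        obtain ⟨c⟩ := W.exists_cls hw hw1
        have h1 := c.le_neg
        have := c.hD
        have : 2 * c.D ≤ 2 * c.D * W.d w := Nat.le_mul_of_pos_right _ hw
        have hD : c.D = 1 := by omega
        have hall : ∀ v, 0 < W.d v → v ∈ c.C ∨ v = -1 := by
          intro v hv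
          by_contra hcon
          push Not at hcon
          obtain ⟨c'⟩ := W.exists_cls hv hcon.2
          have := c.le_two_neg c' hcon.1
          have := c'.hD
          have : 2 * c'.D ≤ 2 * c'.D * W.d v := Nat.le_mul_of_pos_right _ hv
          omega
        rcases c.kind with hk | hk <;> rw [hD, pow_one] at hk
        · refine Or.inl fun v hv => ?_
          rcases hall v hv with h | h
          · exact hk v h
          · rw [h]; exact neg_one_kill W.q_even.1
        · refine Or.inr fun v hv => ?_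
          rcases hall v hv with h | h
          · exact hk v h
          · rw [h]; exact neg_one_kill W.q_even.2.1
      · push Not at hw
        exact Or.inl fun v hv => by rw [hw v hv]; exact neg_one_kill W.q_even.1
    · refine Or.inr ⟨rfl, fun v hv => ?_⟩
      by_cases hv1 : v = -1
      · rw [hv1]; exact neg_one_kill dvd_rfl
      exfalso
      obtain ⟨c⟩ := W.exists_cls hv hv1
      have h1 := c.le_neg
      have := c.hD
      have : 2 * c.D ≤ 2 * c.D * W.d v := Nat.le_mul_of_pos_right _ hv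
      omega

end Weights

end Cfsg.Lib.SpectrumNine
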