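import Cfsg.Agent.Known.SpectrumNine.Split
import Cfsg.Agent.Known.OrthGlue
import Cfsg.Agent.Known.PrimeGraphOrth.Orth
import Mathlib

/-! Transfer of element orders between dimension nine and the affine group of a minus space. -/

set_option autoImplicit false
set_option linter.style.haveILetI false
set_option linter.unusedSectionVars false

open QuadraticMap Cfsg.Lib.Classical Cfsg.Lib.Classical.Refl Matrix

namespace Cfsg.Lib.SpectrumNine

universe u

variable {F : Type u} [Field F] [Fintype F] [DecidableEq F] {ι κ μ : Type} [Fintype ι] [DecidableEq ι]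
  [Fintype κ] [DecidableEq κ] [Fintype μ] [DecidableEq μ]

/-- The sum of the translates of a vector under the powers of an isometry. -/
noncomputable def trace' (Q : QuadraticForm F (ι → F)) (h : Cfsg.isometryGroup F (⇑Q)) (v : ι → F) : ι → F :=
  ∑ i ∈ Finset.range (orderOf h), mat Q (h ^ i) *ᵥ v

/-- `N` divides the order of some element of the affine group. -/
def Cov (Q : QuadraticForm F (ι → F)) (p N : ℕ) : Prop :=
  ∃ h ∈ Cfsg.Omega F (⇑Q), (N ∣ orderOf h) ∨ (∃ v, trace' Q h v ≠ 0 ∧ N ∣ p * orderOf h)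

theorem mem_omega_push (h2 : (2 : F) ≠ 0) {Q : QuadraticForm F (ι → F)} (hQ : (polarBilin Q).Nondegenerate)
    (hι : 2 ≤ Fintype.card ι) {R : QuadraticForm F (κ → F)} (e : Emb R Q) (x : Cfsg.isometryGroup F (⇑R))
    (hd : detHom R x = 1) (hs : spin R x = 1) : e.ext x ∈ Cfsg.Omega F (⇑Q) := by
  rcases Nat.lt_or_ge (Fintype.card κ) 2 with h | h
  · have hx : x = 1 := by
      rcases Nat.eq_zero_or_pos (Fintype.card κ) with h0 | h0
      · haveI := Fintype.card_eq_zero_iff.1 h0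
        exact ext_mulVec R fun y => funext fun i => isEmptyElim i
      · haveI : Subsingleton κ := Fintype.card_le_one_iff_subsingleton.1 (by omega)
        obtain ⟨i₀⟩ := Fintype.card_pos_iff.1 h0
        have hdet : (mat R x).det = 1 := congrArg Units.val hd
        rw [Matrix.det_eq_elem_of_subsingleton _ i₀] at hdet
        refine Subtype.ext (Units.ext (Matrix.ext fun a b => ?_))
        show mat R x a b = (1 : Matrix κ κ F) a b
        rw [Subsingleton.elim a i₀, Subsingleton.elim b i₀, hdet, Matrix.one_apply_eq]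
    rw [hx, map_one]; exact one_mem _
  · rw [mem_omega_iff Q h2 hQ hι, det_ext e h2, spin_ext e h2 hQ hι h x hd]
    exact ⟨hd, hs⟩

theorem mem_omega_pair (h2 : (2 : F) ≠ 0) {Q : QuadraticForm F (ι → F)} (hQ : (polarBilin Q).Nondegenerate)
    (hι : 2 ≤ Fintype.card ι) {R : QuadraticForm F (κ → F)} {S : QuadraticForm F (μ → F)} (e : Emb R Q) (f : Emb S Q)
    (hκ : 2 ≤ Fintype.card κ) (hμ : 2 ≤ Fintype.card μ) (x : Cfsg.isometryGroup F (⇑R))
    (y : Cfsg.isometryGroup F (⇑S)) (hdx : detHom R x = 1) (hdy : detHom S y = 1) (hs : spin R x * spin S y = 1) :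
    e.ext x * f.ext y ∈ Cfsg.Omega F (⇑Q) := by
  rw [mem_omega_iff Q h2 hQ hι, map_mul, map_mul, det_ext e h2, det_ext f h2, spin_ext e h2 hQ hι hκ x hdx,
    spin_ext f h2 hQ hι hμ y hdy]
  exact ⟨by rw [hdx, hdy, one_mul], hs⟩

theorem cov_fixed {Q : QuadraticForm F (ι → F)} {p : ℕ} [Fact p.Prime] [CharP F p] {h : Cfsg.isometryGroup F (⇑Q)}
    (hh : h ∈ Cfsg.Omega F (⇑Q)) {v : ι → F} (hv : mat Q h *ᵥ v = v) (hv0 : v ≠ 0) (hp : ¬ p ∣ orderOf h) {N : ℕ}
    (hN : N ∣ p * orderOf h) : Cov Q p N := by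
  refine ⟨h, hh, Or.inr ⟨v, ?_, hN⟩⟩
  have hpow : ∀ i : ℕ, mat Q (h ^ i) *ᵥ v = v := fun i => by
    induction i with
    | zero => exact Matrix.one_mulVec v
    | succ i ih => rw [pow_succ, mat, mulVec_mul]; rw [show ((h : GL ι F) : Matrix ι ι F) *ᵥ v = v from hv]; exact ih
  rw [trace', Finset.sum_congr rfl fun i _ => hpow i, Finset.sum_const, Finset.card_range, ← Nat.cast_smul_eq_nsmul F]
  exact smul_ne_zero (fun h0 => hp ((CharP.cast_eq_zero_iff F p _).1 h0)) hv0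

theorem cov_shift {Q : QuadraticForm F (ι → F)} (p : ℕ) [Fact p.Prime] [CharP F p] (h2 : (2 : F) ≠ 0) (hp2 : p ≠ 2)
    (hQ : (polarBilin Q).Nondegenerate) (hι : 2 ≤ Fintype.card ι)
    (eS : Emb (sumSq p : QuadraticForm F (ZMod p → F)) Q) {h0 : Cfsg.isometryGroup F (⇑Q)}
    (hh0 : h0 ∈ Cfsg.Omega F (⇑Q)) (hfix : ∀ x, mat Q h0 *ᵥ eS.L x = eS.L x)
    (hcomm : ∀ y, Commute h0 (eS.ext y)) (hp : ¬ p ∣ orderOf h0) {N : ℕ} (hN : N ∣ p * (orderOf h0 * p)) :
    Cov Q p N := by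
  have hpr : p.Prime := Fact.out
  obtain ⟨s, hs, hsm⟩ := exists_shift (F := F) p
  set h := h0 * eS.ext s with hh
  have hso : orderOf (eS.ext s) = p := by rw [orderOf_injective eS.ext eS.ext_injective, hs]
  have hord : orderOf h = orderOf h0 * p := by
    rw [hh, (hcomm s).orderOf_mul_eq_mul_orderOf_of_coprime (by rw [hso]; exact (hpr.coprime_iff_not_dvd.2 hp).symm), hso]
  have hmem : h ∈ Cfsg.Omega F (⇑Q) :=
    mul_mem hh0 (mem_omega_of_odd h2 Q hQ hι _ (by rw [hso]; exact hpr.odd_of_ne_two hp2))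
  refine ⟨h, hmem, Or.inr ⟨eS.L (Pi.single 0 1), ?_, by rw [hord]; exact hN⟩⟩
  have hpow : ∀ (i : ℕ) (x : ZMod p → F), mat Q (h ^ i) *ᵥ eS.L x = eS.L ((shiftEnd p ^ i) x) := fun i => by
    induction i with
    | zero => intro x; exact Matrix.one_mulVec _
    | succ i ih =>
      intro x
      rw [pow_succ', mat, mulVec_mul, show ((h ^ i : Cfsg.isometryGroup F (⇑Q)) : GL ι F).1 *ᵥ eS.L x = _ from ih x,
        hh, mulVec_mul, show ((eS.ext s : Cfsg.isometryGroup F (⇑Q)) : GL ι F).1 *ᵥ _ = _ from eS.ext_L s _]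
      rw [show ((h0 : GL ι F) : Matrix ι ι F) *ᵥ eS.L _ = _ from hfix _]
      congr 1
      have h1 := hsm 1 ((shiftEnd p ^ i) x)
      rw [pow_one, pow_one] at h1
      rw [h1, pow_succ', Module.End.mul_apply]
  rw [trace', Finset.sum_congr rfl fun i _ => hpow i _, ← map_sum, hord]
  intro h0'
  have hsum := eS.L_injective (h0'.trans (map_zero _).symm)
  have hper : ∀ M : ℕ, ∑ i ∈ Finset.range (M * p), (shiftEnd p ^ i) (Pi.single 0 (1 : F) : ZMod p → F) =
      (M : F) • fun _ => (1 : F) := fun M => by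
    induction M with
    | zero => simp
    | succ M ih =>
      rw [Nat.succ_mul, Finset.sum_range_add, ih, Finset.sum_congr rfl fun i _ => by
        rw [pow_add, mul_comm M p, pow_mul, shiftEnd_order, one_pow, one_mul], sum_shift_single]
      rw [Nat.cast_succ, add_smul, one_smul]
  rw [hper] at hsum
  have := congrFun hsum 0
  simp only [Pi.smul_apply, smul_eq_mul, mul_one, Pi.zero_apply, CharP.cast_eq_zero_iff F p] at this
  exact hp this

/-- An embedding of the perpendicular space. -/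
theorem exists_perp (h2 : (2 : F) ≠ 0) {Q : QuadraticForm F (ι → F)} (hQ : (polarBilin Q).Nondegenerate)
    {R : QuadraticForm F (κ → F)} (e : Emb R Q) :
    ∃ (m : ℕ) (S : QuadraticForm F (Fin m → F)) (f : Emb S Q), m + Fintype.card κ = Fintype.card ι ∧ e.Orth f := by
  obtain ⟨S, f, -, hf, -, -⟩ := exists_restrict Q 1 e.perp (e.perp_nd hQ) (fun x hx => by
    rw [show mat Q (1 : Cfsg.isometryGroup F (⇑Q)) *ᵥ x = x from Matrix.one_mulVec x]; exact hx)
  exact ⟨_, S, f, e.finrank_perp, orth_of_mem_perp e f hf⟩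

theorem not_plus_of_plus {Q : QuadraticForm F (ι → F)} {a b : ℕ} (hQ : ¬ IsPlus Q (a + b))
    {R : QuadraticForm F (κ → F)} {S : QuadraticForm F (μ → F)} (e : Emb R Q) (f : Emb S Q) (ho : e.Orth f)
    (hR : IsPlus R a) : ¬ IsPlus S b := by
  rintro ⟨T', hT', hT'0⟩
  obtain ⟨T, hT, hT0⟩ := hR
  refine hQ ⟨T.map e.L ⊔ T'.map f.L, ?_, ?_⟩
  · have hd : T.map e.L ⊓ T'.map f.L = ⊥ := by
      rw [eq_bot_iff]
      rintro _ ⟨⟨x, -, rfl⟩, y, -, hy⟩
      have := congrArg e.proj hy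
      rw [e.proj_L, ho.proj_L] at this
      rw [← this, map_zero]; exact Submodule.zero_mem _
    have := Submodule.finrank_sup_add_finrank_inf_eq (T.map e.L) (T'.map f.L)
    rw [hd, finrank_bot, add_zero, ← (Submodule.equivMapOfInjective e.L e.L_injective T).finrank_eq,
      ← (Submodule.equivMapOfInjective f.L f.L_injective T').finrank_eq, hT, hT'] at this
    exact this
  · intro z hz
    obtain ⟨_, ⟨x, hx, rfl⟩, _, ⟨y, hy, rfl⟩, rfl⟩ := Submodule.mem_sup.1 hz
    rw [QuadraticMap.map_add (f := Q), e.hL, f.hL, hT0 x hx, hT'0 y hy, ho x y]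
    ring

/-- Similarity of odd dimensional spaces. -/
theorem exists_emb_odd {R : QuadraticForm F (κ → F)} (hR : (polarBilin R).Nondegenerate)
    {Q : QuadraticForm F (ι → F)} {S : QuadraticForm F (μ → F)} (f : Emb S Q) {j : ℕ}
    (hκ : Fintype.card κ = 2 * j + 1) (hμ : Fintype.card μ = 2 * j + 1) :
    ∃ e : Emb R Q, ∀ x, ∃ y, e.L x = f.L y := by
  obtain ⟨g₁, c₁, hc₁, hg₁⟩ := OrthGlue.odd_equiv (Q := R) (m := j)
    (by rw [Module.finrank_fintype_fun_eq_card, hκ]) hR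
  obtain ⟨g₂, c₂, hc₂, hg₂⟩ := OrthGlue.odd_equiv (Q := S) (m := j)
    (by rw [Module.finrank_fintype_fun_eq_card, hμ]) f.hR
  refine ⟨⟨f.L.comp (g₂.toLinearMap.comp g₁.symm.toLinearMap), f.c * c₂ / c₁,
    div_ne_zero (mul_ne_zero f.hc hc₂) hc₁, fun x => ?_, hR⟩, fun x => ⟨_, rfl⟩⟩
  simp only [LinearMap.comp_apply, LinearEquiv.coe_coe, f.hL, hg₂]
  have h := hg₁ (g₁.symm x)
  rw [LinearEquiv.apply_symm_apply] at h
  rw [h]
  field_simp

/-- An embedding into the perpendicular of another. -/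
theorem exists_emb_perp (h2 : (2 : F) ≠ 0) {Q : QuadraticForm F (ι → F)} (hQ : (polarBilin Q).Nondegenerate)
    {R : QuadraticForm F (κ → F)} (e : Emb R Q) (S : QuadraticForm F (μ → F)) (hS : (polarBilin S).Nondegenerate)
    (hlt : Fintype.card μ + Fintype.card κ < Fintype.card ι) : ∃ f : Emb S Q, e.Orth f := by
  have := e.finrank_perp
  obtain ⟨f, hf⟩ := exists_emb h2 S hS e.perp (e.perp_nd hQ) (by omega)
  exact ⟨f, orth_of_mem_perp e f hf⟩

theorem not_dvd_q_pow_sub_one {p : ℕ} [Fact p.Prime] [CharP F p] {d : ℕ} (hd : 1 ≤ d) :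
    ¬ p ∣ Fintype.card F ^ d + 1 ∧ ¬ p ∣ Fintype.card F ^ d - 1 := by
  have hp : p.Prime := Fact.out
  obtain ⟨k, -, hk⟩ := FiniteField.card F p
  have hpq : p ∣ Fintype.card F ^ d := by rw [hk]; exact dvd_pow (dvd_pow_self p k.pos.ne') (by omega)
  refine ⟨fun h => hp.not_dvd_one ((Nat.dvd_add_right hpq).1 h), fun h => hp.not_dvd_one ?_⟩
  have := Nat.dvd_sub hpq h
  rwa [Nat.sub_sub_self (Nat.one_le_pow _ _ Fintype.card_pos)] at this

theorem half_dvd_lcm {a b : ℕ} (hg : Nat.gcd a b ∣ 2) (h2 : 2 ∣ a * b) : a * b / 2 ∣ Nat.lcm a b := by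
  rcases (Nat.dvd_prime Nat.prime_two).1 hg with h | h
  · rw [Nat.lcm, h, Nat.div_one]; exact Nat.div_dvd_of_dvd h2
  · rw [Nat.lcm, h]

section Minus

variable {Q : QuadraticForm F (ι → F)} (p : ℕ) [Fact p.Prime] [CharP F p]

theorem top_finrank (Q : QuadraticForm F (ι → F)) :
    Module.finrank F (⊤ : Submodule F (ι → F)) = Fintype.card ι := by
  rw [finrank_top, Module.finrank_fintype_fun_eq_card]

variable (h2 : (2 : F) ≠ 0) (hp2 : p ≠ 2) (hQ : (polarBilin Q).Nondegenerate) (hι : Fintype.card ι = 8)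
  (hminus : ¬ IsPlus Q 4)

include h2 hp2 hQ hι hminus

/-- Two tori, the first of plus type, filling the whole space. -/
theorem cov_full {a b N : ℕ} (ha : 1 ≤ a) (hb : 1 ≤ b) (hab : a + b = 4)
    (hN : N ∣ Nat.lcm (Fintype.card F ^ a - 1) (Fintype.card F ^ b + 1)) : Cov Q p N := by
  obtain ⟨R, x, hR, hxo, hxd, hxs, hxp⟩ := exists_plus_torus (F := F) h2 ha
  obtain ⟨S, y, hS, hyo, hyd, hys, hyp⟩ := exists_minus_torus (F := F) h2 hb
  obtain ⟨e, -⟩ := exists_emb (Q := Q) h2 R hR ⊤ (FormNormal.nd_top Q hQ) (by rw [top_finrank Q, Fintype.card_fin]; omega)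
  obtain ⟨m, S', f, hm, hf⟩ := exists_perp h2 hQ e
  rw [Fintype.card_fin] at hm
  obtain ⟨g⟩ := exists_emb_minus (k := b - 1) hS f.hR (by rw [Fintype.card_fin]; omega) (by rw [Fintype.card_fin]; omega)
    (by rw [Nat.sub_add_cancel hb]; exact hyp)
    (by rw [Nat.sub_add_cancel hb]; exact not_plus_of_plus (hab.symm ▸ hminus) e f hf hxp)
  let e' : Emb S Q := ⟨f.L.comp g.L, f.c * g.c, mul_ne_zero f.hc g.hc, fun z => by
    simp [f.hL, g.hL, mul_assoc], hS⟩
  have ho : e.Orth e' := fun u v => hf u (g.L v)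
  refine ⟨_, mem_omega_pair h2 hQ (by omega) e e' (by rw [Fintype.card_fin]; omega) (by rw [Fintype.card_fin]; omega)
    x y hxd hyd (by rw [hxs, hys, Int.units_mul_self]), Or.inl ?_⟩
  rw [ho.orderOf_mul, hxo, hyo]
  exact hN

/-- Two tori fixing a vector. -/
theorem cov_six {A B : ℕ} {RA : QuadraticForm F (Fin (2 * A) → F)} {RB : QuadraticForm F (Fin (2 * B) → F)}
    (x : Cfsg.isometryGroup F (⇑RA)) (y : Cfsg.isometryGroup F (⇑RB)) (hA : (polarBilin RA).Nondegenerate)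
    (hB : (polarBilin RB).Nondegenerate) (hA1 : 1 ≤ A) (hB1 : 1 ≤ B) (hAB : A + B = 3) (hdx : detHom RA x = 1)
    (hdy : detHom RB y = 1) (hs : spin RA x * spin RB y = 1) (hpx : ¬ p ∣ orderOf x) (hpy : ¬ p ∣ orderOf y) {N : ℕ}
    (hN : N ∣ p * Nat.lcm (orderOf x) (orderOf y)) : Cov Q p N := by
  obtain ⟨e, -⟩ := exists_emb (Q := Q) h2 RA hA ⊤ (FormNormal.nd_top Q hQ) (by rw [top_finrank Q, Fintype.card_fin]; omega)
  obtain ⟨f, hf⟩ := exists_emb_perp h2 hQ e RB hB (by simp only [Fintype.card_fin]; omega)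
  have hne : e.perp ⊓ f.perp ≠ ⊥ := by
    intro h0
    have h1 := Submodule.finrank_sup_add_finrank_inf_eq e.perp f.perp
    rw [h0, finrank_bot, add_zero] at h1
    have h3 := Submodule.finrank_le (e.perp ⊔ f.perp)
    have he := e.finrank_perp
    have hf' := f.finrank_perp
    rw [Module.finrank_fintype_fun_eq_card] at h3
    rw [Fintype.card_fin] at he hf'
    omega
  obtain ⟨v, ⟨hv1, hv2⟩, hv0⟩ := Submodule.exists_mem_ne_zero_of_ne_bot hne
  refine cov_fixed (mem_omega_pair h2 hQ (by omega) e f (by rw [Fintype.card_fin]; omega)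
    (by rw [Fintype.card_fin]; omega) x y hdx hdy hs) (v := v) ?_ hv0 ?_ (by rw [hf.orderOf_mul]; exact hN)
  · rw [mat, mulVec_mul, show ((f.ext y : Cfsg.isometryGroup F (⇑Q)) : GL ι F).1 *ᵥ v = v from f.ext_orth y hv2]
    exact e.ext_orth x hv1
  · rw [hf.orderOf_mul]
    intro h
    rcases (Fact.out : p.Prime).dvd_mul.1 (h.trans (Nat.lcm_dvd_mul _ _)) with h' | h'
    exacts [hpx h', hpy h']

/-- A torus or two, and a shift of order `p`. -/
theorem cov_two_shift {A B : ℕ} {RA : QuadraticForm F (Fin (2 * A) → F)} {RB : QuadraticForm F (Fin (2 * B) → F)}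
    (x : Cfsg.isometryGroup F (⇑RA)) (y : Cfsg.isometryGroup F (⇑RB)) (hA : (polarBilin RA).Nondegenerate)
    (hB : (polarBilin RB).Nondegenerate) (hA1 : 1 ≤ A) (hB1 : 1 ≤ B) (hp8 : p + 2 * A + 2 * B < 8)
    (hdx : detHom RA x = 1) (hdy : detHom RB y = 1) (hs : spin RA x * spin RB y = 1) (hpx : ¬ p ∣ orderOf x)
    (hpy : ¬ p ∣ orderOf y) {N : ℕ} (hN : N ∣ p * (orderOf x * p)) : Cov Q p N := by
  obtain ⟨e, -⟩ := exists_emb (Q := Q) h2 RA hA ⊤ (FormNormal.nd_top Q hQ) (by rw [top_finrank Q, Fintype.card_fin]; omega)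
  obtain ⟨f, hf⟩ := exists_emb_perp h2 hQ e RB hB (by simp only [Fintype.card_fin]; omega)
  have hW : FormNormal.ND Q (e.perp ⊓ f.perp) := fun z hz h => e.perp_nd hQ z hz.1 fun w hw => by
    have h1 : w - f.L (f.proj w) ∈ e.perp ⊓ f.perp := ⟨e.perp.sub_mem hw fun u => hf.symm _ u, f.polar_sub_proj w⟩
    have h3 : polar (⇑Q) z (f.L (f.proj w)) = 0 := hz.2 _
    have h4 := h _ h1
    rw [QuadraticMap.polar_sub_right, h3, sub_zero] at h4
    exact h4
  have hd : p < Module.finrank F ↥(e.perp ⊓ f.perp) := by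
    have h1 := Submodule.finrank_sup_add_finrank_inf_eq e.perp f.perp
    have h3 := Submodule.finrank_le (e.perp ⊔ f.perp)
    have he := e.finrank_perp
    have hf' := f.finrank_perp
    rw [Module.finrank_fintype_fun_eq_card] at h3
    rw [Fintype.card_fin] at he hf'
    omega
  obtain ⟨eS, heS⟩ := exists_emb h2 (sumSq p) (sumSq_nd h2) (e.perp ⊓ f.perp) hW (by rw [ZMod.card]; exact hd)
  have ho1 : e.Orth eS := orth_of_mem_perp e eS fun z => (heS z).1
  have ho2 : f.Orth eS := orth_of_mem_perp f eS fun z => (heS z).2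
  refine cov_shift p h2 hp2 hQ (by omega) eS (mem_omega_pair h2 hQ (by omega) e f (by rw [Fintype.card_fin]; omega)
    (by rw [Fintype.card_fin]; omega) x y hdx hdy hs) (fun z => ?_) (fun z => (ho1.commute x z).mul_left (ho2.commute y z))
    ?_ ?_
  · rw [mat, mulVec_mul, show ((f.ext y : Cfsg.isometryGroup F (⇑Q)) : GL ι F).1 *ᵥ eS.L z = eS.L z from
      f.ext_orth y (heS z).2]
    exact e.ext_orth x (heS z).1
  · rw [hf.orderOf_mul]
    intro h
    rcases (Fact.out : p.Prime).dvd_mul.1 (h.trans (Nat.lcm_dvd_mul _ _)) with h' | h'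
    exacts [hpx h', hpy h']
  · rw [hf.orderOf_mul]
    exact hN.trans (Nat.mul_dvd_mul_left p (Nat.mul_dvd_mul_right (Nat.dvd_lcm_left _ _) p))

/-- Every candidate is realised. -/
theorem cov_target {N : ℕ} (hN : Target (Fintype.card F) p N) : Cov Q p N := by
  set q := Fintype.card F with hq
  have np := fun {d : ℕ} (hd : 1 ≤ d) => not_dvd_q_pow_sub_one (F := F) (p := p) hd
  rcases hN with h | h | h | h | h | h | ⟨h3, h⟩ | ⟨h5, h⟩
  · refine cov_full p h2 hp2 hQ hι hminus (a := 2) (b := 2) (by omega) (by omega) rfl (h.trans ?_)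
    have e : q ^ 4 - 1 = (q ^ 2 - 1) * (q ^ 2 + 1) := by
      rw [mul_comm, show q ^ 4 = (q ^ 2) ^ 2 by ring]; simpa using Nat.sq_sub_sq (q ^ 2) 1
    have h1 : 1 ≤ q ^ 2 := Nat.one_le_pow _ _ Fintype.card_pos
    rw [e]
    refine half_dvd_lcm ?_ (Dvd.dvd.mul_right (q_facts h2 (show 1 ≤ 2 by omega)).2.2.1.two_dvd _)
    have := Nat.dvd_sub (Nat.gcd_dvd_right (q ^ 2 - 1) (q ^ 2 + 1)) (Nat.gcd_dvd_left (q ^ 2 - 1) (q ^ 2 + 1))
    rwa [show q ^ 2 + 1 - (q ^ 2 - 1) = 2 by omega] at this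
  · exact cov_full p h2 hp2 hQ hι hminus (a := 3) (b := 1) (by omega) (by omega) rfl (by rwa [pow_one])
  · exact cov_full p h2 hp2 hQ hι hminus (a := 1) (b := 3) (by omega) (by omega) rfl
      (by rw [pow_one, Nat.lcm_comm]; exact h)
  · obtain ⟨R, x, hR, hxo, hxd, hxs, -⟩ := exists_minus_torus (F := F) h2 (show 1 ≤ 2 by omega)
    obtain ⟨S, y, hS, hyo, hyd, hys, -⟩ := exists_plus_torus (F := F) h2 (show 1 ≤ 1 by omega)
    exact cov_six p h2 hp2 hQ hι hminus x y hR hS (by omega) (by omega) rfl hxd hyd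
      (by rw [hxs, hys, Int.units_mul_self]) (hxo ▸ (np (by omega)).1) (hyo ▸ (np le_rfl).2)
      (by rw [hxo, hyo, pow_one]; exact h)
  · obtain ⟨R, x, hR, hxo, hxd, hxs, -⟩ := exists_minus_torus (F := F) h2 (show 1 ≤ 2 by omega)
    obtain ⟨S, y, hS, hyo, hyd, hys, -⟩ := exists_minus_torus (F := F) h2 (show 1 ≤ 1 by omega)
    exact cov_six p h2 hp2 hQ hι hminus x y hR hS (by omega) (by omega) rfl hxd hyd
      (by rw [hxs, hys, Int.units_mul_self]) (hxo ▸ (np (by omega)).1) (hyo ▸ (np le_rfl).1)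
      (by rw [hxo, hyo, pow_one]; exact h)
  · obtain ⟨R, x, hR, hxo, hxd, hxs, -⟩ := exists_plus_torus (F := F) h2 (show 1 ≤ 2 by omega)
    obtain ⟨S, y, hS, hyo, hyd, hys, -⟩ := exists_plus_torus (F := F) h2 (show 1 ≤ 1 by omega)
    exact cov_six p h2 hp2 hQ hι hminus x y hR hS (by omega) (by omega) rfl hxd hyd
      (by rw [hxs, hys, Int.units_mul_self]) (hxo ▸ (np (by omega)).2) (hyo ▸ (np le_rfl).2)
      (h.trans (Nat.mul_dvd_mul_left p (by rw [hxo]; exact Nat.dvd_lcm_left _ _)))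
  · subst h3
    obtain ⟨S, y, hS, hyo, hyd, hys, -⟩ := exists_plus_torus (F := F) h2 (show 1 ≤ 1 by omega)
    rcases h with h | h
    · exact cov_two_shift 3 h2 hp2 hQ hι hminus y y hS hS (by omega) (by omega) (by omega) hyd hyd
        (Int.units_mul_self _) (hyo ▸ (np le_rfl).2) (hyo ▸ (np le_rfl).2)
        (h.trans (by rw [hyo, pow_one]; exact dvd_of_eq (by ring)))
    · obtain ⟨R, x, hR, hxo, hxd, hxs, -⟩ := exists_minus_torus (F := F) h2 (show 1 ≤ 1 by omega)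
      exact cov_two_shift 3 h2 hp2 hQ hι hminus x y hR hS (by omega) (by omega) (by omega) hxd hyd
        (by rw [hxs, hys, Int.units_mul_self]) (hxo ▸ (np le_rfl).1) (hyo ▸ (np le_rfl).2)
        (h.trans (by rw [hxo, pow_one]; exact dvd_of_eq (by ring)))
  · subst h5
    -- a plane isometry of even order and trivial spinor value
    obtain ⟨R, x, hR, hxd, hxs, hxev, hxp⟩ : ∃ (R : QuadraticForm F (Fin (2 * 1) → F))
        (x : Cfsg.isometryGroup F (⇑R)), (polarBilin R).Nondegenerate ∧ detHom R x = 1 ∧ spin R x = 1 ∧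
          2 ∣ orderOf x ∧ ¬ 5 ∣ orderOf x := by
      obtain ⟨k, hk⟩ := (q_facts (F := F) h2 (show 1 ≤ 1 by omega)).2.1
      rw [pow_one] at hk
      rcases Nat.even_or_odd k with ⟨j, hj⟩ | ⟨j, hj⟩
      · obtain ⟨R, x, hR, hxo, hxd, hxs, -⟩ := exists_minus_torus (F := F) h2 (show 1 ≤ 1 by omega)
        have ho : orderOf (x ^ 2) = k := by
          rw [orderOf_pow_of_dvd two_ne_zero (by rw [hxo, pow_one, hk, ← two_mul]; exact dvd_mul_right _ _), hxo, pow_one]
          omega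
        refine ⟨R, x ^ 2, hR, by rw [map_pow, hxd, one_pow], by rw [map_pow, hxs]; rfl, ho ▸ ⟨j, by omega⟩, fun hd => ?_⟩
        exact (np (le_refl 1)).1 (hd.trans (by rw [ho, pow_one]; exact ⟨2, by omega⟩))
      · obtain ⟨R, x, hR, hxo, hxd, hxs, -⟩ := exists_plus_torus (F := F) h2 (show 1 ≤ 1 by omega)
        have ho : orderOf (x ^ 2) = k - 1 := by
          rw [orderOf_pow_of_dvd two_ne_zero (by rw [hxo, pow_one]; exact ⟨k - 1, by omega⟩), hxo, pow_one]
          omega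
        refine ⟨R, x ^ 2, hR, by rw [map_pow, hxd, one_pow], by rw [map_pow, hxs]; rfl, ho ▸ ⟨j, by omega⟩, fun hd => ?_⟩
        exact (np (le_refl 1)).2 (hd.trans (by rw [ho, pow_one]; exact ⟨2, by omega⟩))
    obtain ⟨e, -⟩ := exists_emb (Q := Q) h2 R hR ⊤ (FormNormal.nd_top Q hQ) (by rw [top_finrank Q, Fintype.card_fin]; omega)
    obtain ⟨eS, hoS⟩ := exists_emb_perp h2 hQ e (sumSq 5) (sumSq_nd h2) (by rw [ZMod.card, Fintype.card_fin]; omega)
    refine cov_shift 5 h2 hp2 hQ (by omega) eS (mem_omega_push h2 hQ (by omega) e x hxd hxs)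
      (fun z => e.ext_orth x fun u => by rw [QuadraticMap.polar_comm]; exact hoS u z) (fun z => hoS.commute x z) ?_ ?_
    · rwa [orderOf_injective e.ext e.ext_injective]
    · rw [orderOf_injective e.ext e.ext_injective]
      exact h.trans (by rw [show (50 : ℕ) = 5 * (2 * 5) by norm_num]; exact Nat.mul_dvd_mul_left 5 (Nat.mul_dvd_mul_right hxev 5))

end Minus

theorem mat_mul_mulVec {Q : QuadraticForm F (ι → F)} (g h : Cfsg.isometryGroup F (⇑Q)) (x : ι → F) :
    mat Q (g * h) *ᵥ x = mat Q g *ᵥ (mat Q h *ᵥ x) := mulVec_mul Q g h x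

/-- From dimension nine to the affine group. -/
theorem cov_of_omega (p : ℕ) [Fact p.Prime] [CharP F p] (h2 : (2 : F) ≠ 0) (hp2 : p ≠ 2)
    {Q : QuadraticForm F (ι → F)} (hQ : (polarBilin Q).Nondegenerate) (hι : Fintype.card ι = 9)
    {Qm : QuadraticForm F (κ → F)} (hQm : (polarBilin Qm).Nondegenerate) (hκ : Fintype.card κ = 8)
    (hminus : ¬ IsPlus Qm 4) (g : Cfsg.isometryGroup F (⇑Q)) (hg : g ∈ Cfsg.Omega F (⇑Q)) :
    Cov Qm p (orderOf g) := by
  have hp : p.Prime := Fact.out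
  have hp3 : 3 ≤ p := by have := hp.two_le; omega
  obtain ⟨hd, hs⟩ := (mem_omega_iff Q h2 hQ (by omega)).1 hg
  obtain ⟨k, m, R, T, eU, eW, gU, gW, hkm, hk, ho, rfl, hfree, hUd, hUs, hWn, ⟨a, ha⟩⟩ :=
    exists_split h2 p hp2 Q hQ (by omega) g hd hs
  rw [hι] at hkm
  haveI : Nonempty (Fin m) := ⟨⟨0, by obtain ⟨r, hr⟩ := hk; omega⟩⟩
  have hm9 : m ≤ p ^ 2 := by nlinarith
  have ha2 : a ≤ 2 := (Nat.pow_dvd_pow_iff_le_right hp.one_lt).1
    (ha ▸ orderOf_dvd_of_pow_eq_one (pow_eq_one_of_nilp p gW hWn hm9))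
  rw [ho.orderOf_mul, ha]
  rcases (show k = 8 ∨ k ≤ 6 by obtain ⟨r, hr⟩ := hk; omega) with h8 | h6
  · have hm1 : m = 1 := by omega
    have ha0 : a = 0 := Nat.le_zero.1 ((Nat.pow_dvd_pow_iff_le_right hp.one_lt).1
      (ha ▸ orderOf_dvd_of_pow_eq_one (pow_eq_one_of_nilp p gW (t := 0) hWn (by rw [hm1, pow_zero]))))
    rw [ha0, pow_zero, Nat.lcm_one_right]
    by_cases hpl : IsPlus R 4
    · exact cov_target p h2 hp2 hQm hκ hminus
        (upper h2 p hp2 R eU.hR (by rw [Fintype.card_fin, h8]) hpl gU hfree hUs)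
    · obtain ⟨e⟩ := exists_emb_minus (k := 3) eU.hR hQm (by rw [Fintype.card_fin, h8]) hκ hpl hminus
      exact ⟨_, mem_omega_push h2 hQm (by omega) e gU hUd hUs, Or.inl (by rw [orderOf_injective e.ext e.ext_injective])⟩
  obtain ⟨e, -⟩ := exists_emb (Q := Qm) h2 R eU.hR ⊤ (FormNormal.nd_top Qm hQm)
    (by rw [top_finrank Qm, Fintype.card_fin, hκ]; omega)
  have hmem := mem_omega_push h2 hQm (by omega) e gU hUd hUs
  have heo : orderOf (e.ext gU) = orderOf gU := orderOf_injective e.ext e.ext_injective gU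
  by_cases hdiv : p ^ a ∣ orderOf gU
  · exact ⟨_, hmem, Or.inl (by rw [Nat.lcm_eq_left hdiv, heo])⟩
  obtain ⟨b, M, hpM, hM⟩ := Nat.exists_eq_pow_mul_and_not_dvd (orderOf_pos gU).ne' p hp.ne_one
  have hba : b < a := by
    by_contra hba
    exact hdiv (hM ▸ (pow_dvd_pow p (not_lt.1 hba)).mul_right M)
  have hlcm : Nat.lcm (orderOf gU) (p ^ a) ∣ p ^ a * M := Nat.lcm_dvd
    (hM ▸ Nat.mul_dvd_mul_right (pow_dvd_pow p hba.le) M) (dvd_mul_right _ _)
  have hperp := e.finrank_perp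
  rw [Fintype.card_fin, hκ] at hperp
  rcases (show a = 1 ∨ a = 2 by omega) with rfl | rfl
  · obtain rfl : b = 0 := by omega
    rw [pow_zero, one_mul] at hM
    obtain ⟨v, hv, hv0⟩ := Submodule.exists_mem_ne_zero_of_ne_bot (p := e.perp)
      (fun h0 => by rw [h0, finrank_bot] at hperp; omega)
    refine cov_fixed hmem (e.ext_orth gU hv) hv0 (by rw [heo, hM]; exact hpM) ?_
    rw [heo]
    rw [pow_one, ← hM] at hlcm
    rwa [pow_one]
  · have hpm : p < m := by
      by_contra hle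
      have := (Nat.pow_dvd_pow_iff_le_right hp.one_lt).1
        (ha ▸ orderOf_dvd_of_pow_eq_one (pow_eq_one_of_nilp p gW (t := 1) hWn (by rw [pow_one]; omega)))
      omega
    have hp8 : p + k < 8 := by
      obtain ⟨r, hr⟩ := hk
      obtain ⟨j, hj⟩ := hp.odd_of_ne_two hp2
      omega
    obtain ⟨eS, hoS⟩ := exists_emb_perp h2 hQm e (sumSq p) (sumSq_nd h2) (by rw [ZMod.card, Fintype.card_fin, hκ]; omega)
    have hxo : orderOf (gU ^ p ^ b) = M := by
      rw [orderOf_pow_of_dvd (pow_ne_zero _ hp.ne_zero) (hM ▸ dvd_mul_right _ _), hM,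
        Nat.mul_div_cancel_left _ (pow_pos hp.pos _)]
    refine cov_shift p h2 hp2 hQm (by omega) eS (mem_omega_push h2 hQm (by omega) e (gU ^ p ^ b)
        (by rw [map_pow, hUd, one_pow]) (by rw [map_pow, hUs, one_pow]))
      (fun z => e.ext_orth _ fun u => by rw [QuadraticMap.polar_comm]; exact hoS u z) (fun z => hoS.commute _ z)
      (by rw [orderOf_injective e.ext e.ext_injective, hxo]; exact hpM) ?_
    rw [orderOf_injective e.ext e.ext_injective, hxo]
    exact hlcm.trans (dvd_of_eq (by ring))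

theorem decomp_emb {Q : QuadraticForm F (ι → F)} {R : QuadraticForm F (κ → F)} {S : QuadraticForm F (μ → F)}
    (e : Emb R Q) (f : Emb S Q) (ho : e.Orth f) (hd : Fintype.card κ + Fintype.card μ = Fintype.card ι) (v : ι → F) :
    ∃ a b, e.L a + f.L b = v := by
  let Φ : ((κ → F) × (μ → F)) →ₗ[F] (ι → F) := e.L.coprod f.L
  have hinj : Function.Injective Φ := (injective_iff_map_eq_zero Φ).2 fun x hx => by
    have h : e.L x.1 + f.L x.2 = 0 := hx
    have h1 := congrArg e.proj h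
    have h3 := congrArg f.proj h
    rw [map_add, map_zero, e.proj_L, ho.proj_L, add_zero] at h1
    rw [map_add, map_zero, f.proj_L, ho.symm.proj_L, zero_add] at h3
    exact Prod.ext h1 h3
  have := (LinearMap.injective_iff_surjective_of_finrank_eq_finrank (by
    simp only [Module.finrank_prod, Module.finrank_fintype_fun_eq_card]; exact hd)).1 hinj v
  obtain ⟨x, hx⟩ := this
  exact ⟨x.1, x.2, hx⟩

theorem sum_pow_pred {K : Type*} [Field K] {V : Type*} [AddCommGroup V] [Module K V] (p : ℕ) [Fact p.Prime] [CharP K p]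
    (A : Module.End K V) (c : ℕ) : ∑ i ∈ Finset.range (p ^ c), A ^ i = (A - 1) ^ (p ^ c - 1) := by
  have hpos : 0 < p ^ c := pow_pos (Fact.out : p.Prime).pos c
  have key : (∑ i ∈ Finset.range (p ^ c), (Polynomial.X : Polynomial K) ^ i) = (Polynomial.X - 1) ^ (p ^ c - 1) := by
    refine mul_right_cancel₀ (b := (Polynomial.X - 1 : Polynomial K)) ?_ ?_
    · rw [← Polynomial.C_1]; exact Polynomial.X_sub_C_ne_zero 1
    · rw [geom_sum_mul, ← pow_succ, Nat.sub_add_cancel hpos, sub_pow_char_pow, one_pow]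
  have := congrArg (Polynomial.aeval A) key
  simpa [map_sum, map_pow] using this

/-- From the affine group to dimension nine. -/
theorem omega_of_cov (p : ℕ) [Fact p.Prime] [CharP F p] (h2 : (2 : F) ≠ 0) (hp2 : p ≠ 2)
    {Q : QuadraticForm F (ι → F)} (hQ : (polarBilin Q).Nondegenerate) (hι : Fintype.card ι = 9)
    {Qm : QuadraticForm F (κ → F)} (hQm : (polarBilin Qm).Nondegenerate) (hκ : Fintype.card κ = 8)
    (h : Cfsg.isometryGroup F (⇑Qm)) (hh : h ∈ Cfsg.Omega F (⇑Qm)) :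
    (∃ g ∈ Cfsg.Omega F (⇑Q), orderOf h ∣ orderOf g) ∧
      ∀ v, trace' Qm h v ≠ 0 → ∃ g ∈ Cfsg.Omega F (⇑Q), p * orderOf h ∣ orderOf g := by
  have hp : p.Prime := Fact.out
  have hp3 : 3 ≤ p := by have := hp.two_le; omega
  obtain ⟨hd, hs⟩ := (mem_omega_iff Qm h2 hQm (by omega)).1 hh
  refine ⟨?_, fun v hv => ?_⟩
  · obtain ⟨e, -⟩ := exists_emb (Q := Q) h2 Qm hQm ⊤ (FormNormal.nd_top Q hQ) (by rw [top_finrank Q, hι, hκ]; omega)
    exact ⟨_, mem_omega_push h2 hQ (by omega) e h hd hs, by rw [orderOf_injective e.ext e.ext_injective]⟩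
  obtain ⟨k, m, R, T, eU, eW, gU, gW, hkm, hk, ho, rfl, hfree, hUd, hUs, hWn, ⟨a, ha⟩⟩ :=
    exists_split h2 p hp2 Qm hQm (by omega) h hd hs
  set H := eU.ext gU * eW.ext gW with hH
  have hord : orderOf H = Nat.lcm (orderOf gU) (p ^ a) := by rw [hH, ho.orderOf_mul, ha]
  rw [hκ] at hkm
  obtain ⟨x, y, hxy⟩ := decomp_emb eU eW ho (by simp only [Fintype.card_fin]; omega) v
  have hpow : ∀ i : ℕ, mat Qm (H ^ i) *ᵥ v =
      eU.L (mat R (gU ^ i) *ᵥ x) + eW.L (mat T (gW ^ i) *ᵥ y) := fun i => by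
    rw [hH, (ho.commute gU gW).mul_pow, ← map_pow, ← map_pow, ← hxy, Matrix.mulVec_add, ho.mul_L]
    congr 1
    rw [(ho.commute _ _).eq, ho.symm.mul_L]
  set N := orderOf H with hN
  have hgUN : gU ^ N = 1 := orderOf_dvd_iff_pow_eq_one.1 (hord ▸ Nat.dvd_lcm_left _ _)
  have hsumU : ∑ i ∈ Finset.range N, mat R (gU ^ i) *ᵥ x = 0 := by
    refine hfree _ ?_
    rw [Matrix.mulVec_sum]
    have h1 := Finset.sum_range_succ' (fun i => mat R (gU ^ i) *ᵥ x) N
    have h3 := Finset.sum_range_succ (fun i => mat R (gU ^ i) *ᵥ x) N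
    rw [hgUN] at h3
    rw [pow_zero] at h1
    rw [h3, add_left_inj] at h1
    rw [Finset.sum_congr rfl fun i _ => show mat R gU *ᵥ (mat R (gU ^ i) *ᵥ x) = mat R (gU ^ (i + 1)) *ᵥ x from by
      rw [pow_succ', mat_mul_mulVec]]
    exact h1.symm
  rw [trace', Finset.sum_congr rfl fun i _ => hpow i, Finset.sum_add_distrib, ← map_sum, ← map_sum, ← hN, hsumU,
    map_zero, zero_add] at hv
  obtain ⟨M, hM⟩ : p ^ a ∣ N := hord ▸ Nat.dvd_lcm_right _ _
  have hm : Even m := by obtain ⟨r, hr⟩ := hk; exact ⟨4 - r, by omega⟩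
  have hm0 : 0 < m := by
    by_contra h0
    refine hv ?_
    haveI : IsEmpty (Fin m) := ⟨fun i => absurd i.2 (by omega)⟩
    rw [Subsingleton.elim (∑ i ∈ Finset.range N, mat T (gW ^ i) *ᵥ y) 0, map_zero]
  haveI : Nonempty (Fin m) := ⟨⟨0, hm0⟩⟩
  set A : Module.End F (Fin m → F) := Matrix.toLin' (mat T gW) with hA
  have hApow : ∀ i, mat T (gW ^ i) *ᵥ y = (A ^ i) y := fun i => by
    induction i with
    | zero => exact Matrix.one_mulVec y
    | succ i ih => rw [pow_succ', mat_mul_mulVec, ih, pow_succ', Module.End.mul_apply]; rfl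
  have hsum : ∀ M, ∑ i ∈ Finset.range (p ^ a * M), (A ^ i) y = (M : F) • ((A - 1) ^ (p ^ a - 1)) y := fun M => by
    induction M with
    | zero => simp
    | succ M ih =>
      rw [Nat.mul_succ, Finset.sum_range_add, ih, Nat.cast_succ, add_smul, one_smul]
      congr 1
      rw [← sum_pow_pred p A a, LinearMap.sum_apply]
      refine Finset.sum_congr rfl fun i _ => ?_
      rw [← hApow, ← hApow, pow_add, pow_mul, ← ha, pow_orderOf_eq_one, one_pow, one_mul]
  rw [Finset.sum_congr rfl fun i _ => hApow i, hM, hsum, map_smul, smul_ne_zero_iff] at hv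
  obtain ⟨hMne, hAne⟩ := hv
  have hpM : ¬ p ∣ M := fun h => hMne ((CharP.cast_eq_zero_iff F p M).2 h)
  have hidx : (A - 1) ^ (m - 1) = 0 := unip_even_index h2 eW.hR gW (m := m - 1)
    (by obtain ⟨r, hr⟩ := hm; exact ⟨r - 1, by omega⟩) (by rw [Fintype.card_fin]; omega)
    (by rw [Nat.sub_add_cancel hm0]; exact hWn)
  have hpa : p ^ a ≤ m - 1 := by
    by_contra hlt
    exact hAne (by rw [pow_eq_zero_of_le (by omega) hidx, LinearMap.zero_apply, map_zero])
  have ha1 : a ≤ 1 := by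
    by_contra hc
    have := Nat.pow_le_pow_right hp.pos (show 2 ≤ a by omega)
    have h9 : 9 ≤ p ^ 2 := by nlinarith
    omega
  -- the unipotent part one power higher
  have hnew : Nat.lcm (orderOf gU) (p ^ (a + 1)) = p * N := by
    have h1 : Nat.lcm (orderOf gU) (p ^ (a + 1)) = Nat.lcm N (p ^ (a + 1)) := by
      rw [hord, Nat.lcm_assoc, Nat.lcm_eq_right (pow_dvd_pow p (Nat.le_succ a))]
    rw [h1, hM, pow_succ, Nat.lcm_mul_left,
      Nat.Coprime.lcm_eq_mul (hp.coprime_iff_not_dvd.2 hpM).symm]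
    ring
  obtain ⟨e, -⟩ := exists_emb (Q := Q) h2 R eU.hR ⊤ (FormNormal.nd_top Q hQ)
    (by rw [top_finrank Q, Fintype.card_fin, hι]; omega)
  obtain ⟨n, S, f, hn, hf⟩ := exists_perp h2 hQ e
  rw [Fintype.card_fin, hι] at hn
  obtain ⟨r, hr⟩ := hm
  obtain ⟨μ', _, _, U, u, hU, hcard, hu, j, hj, hjn⟩ : ∃ (μ' : Type) (_ : Fintype μ') (_ : DecidableEq μ')
      (U : QuadraticForm F (μ' → F)) (u : Cfsg.isometryGroup F (⇑U)), (polarBilin U).Nondegenerate ∧
        (Fintype.card μ' < n ∨ Fintype.card μ' = n) ∧ orderOf u = p ^ (a + 1) ∧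
        ∃ j, Fintype.card μ' = 2 * j + 1 ∧ n % 2 = 1 := by
    rcases (show a = 0 ∨ a = 1 by omega) with rfl | rfl
    · obtain ⟨u, hu⟩ := PrimeGraphOrth.exists_p_elt (F := F) h2 p (show 1 ≤ r by omega)
      exact ⟨_, inferInstance, inferInstance, oddForm r F, u, oddForm_nondegenerate h2 r,
        Or.inr (by rw [PrimeGraphOrth.card_idx]; omega), by rw [hu, zero_add, pow_one], r, PrimeGraphOrth.card_idx r,
        by omega⟩
    · obtain ⟨μ', i1, i2, U, u, hc, hU, hu⟩ := exists_eichler (F := F) p h2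
      obtain ⟨j, hj⟩ := hp.odd_of_ne_two hp2
      rw [pow_one] at hpa
      refine ⟨μ', i1, i2, U, u, hU, ?_, hu, j + 1, by omega, by omega⟩
      rw [hc]; omega
  obtain ⟨eV, hV⟩ : ∃ eV : Emb U Q, e.Orth eV := by
    rcases hcard with hlt | heq
    · exact exists_emb_perp h2 hQ e U hU (by rw [Fintype.card_fin, hι]; omega)
    · obtain ⟨eV, hVf⟩ := exists_emb_odd hU f hj (by rw [Fintype.card_fin]; omega)
      exact ⟨eV, fun a b => by obtain ⟨c, hc⟩ := hVf b; rw [hc]; exact hf a c⟩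
  refine ⟨_, mul_mem (mem_omega_push h2 hQ (by omega) e gU hUd hUs)
    (mem_omega_of_odd h2 Q hQ (by omega) (eV.ext u) (by
      rw [orderOf_injective eV.ext eV.ext_injective, hu]; exact (hp.odd_of_ne_two hp2).pow)), ?_⟩
  rw [hV.orderOf_mul, hu, hnew]

end Cfsg.Lib.SpectrumNine
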