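import Mathlib

/-! Eigenspaces of a semisimple isometry of a symmetric bilinear form and a commuting unipotent one. -/

set_option autoImplicit false
set_option linter.style.haveILetI false
set_option linter.unusedSectionVars false

open Module Module.End

namespace Cfsg.Lib.SpectrumNine.Eig

universe u v

variable {K : Type u} [Field K] [IsAlgClosed K] {V : Type v} [AddCommGroup V] [Module K V] [FiniteDimensional K V]
  {B : LinearMap.BilinForm K V} {s : Module.End K V} {N : ℕ}

/-- A nilpotent map is killed by the dimension of any invariant subspace, on it. -/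
theorem pow_dim_eq_zero (n : Module.End K V) (hn : IsNilpotent n) (U : Submodule K V) (hU : ∀ x ∈ U, n x ∈ U)
    {k : ℕ} (hk : finrank K U ≤ k) : ∀ x ∈ U, (n ^ k) x = 0 := by
  intro x hx
  have hpow : ∀ (j : ℕ) (y : U), (((n.restrict hU) ^ j) y : V) = (n ^ j) y := fun j => by
    induction j with
    | zero => exact fun y => rfl
    | succ j ih => intro y; rw [pow_succ', pow_succ', Module.End.mul_apply, Module.End.mul_apply, ← ih]; rfl
  obtain ⟨t, ht⟩ := hn
  have hr : IsNilpotent (n.restrict hU) := ⟨t, LinearMap.ext fun y => Subtype.ext (by rw [hpow, ht]; rfl)⟩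
  have h := LinearMap.aeval_self_charpoly (n.restrict hU)
  rw [hr.charpoly_eq_X_pow_finrank, map_pow, Polynomial.aeval_X] at h
  have h' := congrArg Subtype.val (LinearMap.congr_fun h ⟨x, hx⟩)
  rw [hpow] at h'
  obtain ⟨c, rfl⟩ := Nat.exists_eq_add_of_le hk
  rw [add_comm, pow_add, Module.End.mul_apply, show (n ^ finrank K U) x = 0 from h', map_zero]

/-- The standing hypotheses. -/
structure Setting (B : LinearMap.BilinForm K V) (s : Module.End K V) (N : ℕ) : Prop where
  symm : ∀ x y, B x y = B y x
  nd : ∀ x, (∀ y, B x y = 0) → x = 0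
  iso : ∀ x y, B (s x) (s y) = B x y
  hs : s ^ N = 1
  hN : (N : K) ≠ 0

namespace Setting

variable (h : Setting B s N)
include h

theorem semisimple : s.IsSemisimple :=
  isSemisimple_of_squarefree_aeval_eq_zero
    (Polynomial.separable_X_pow_sub_C (1 : K) h.hN one_ne_zero).squarefree
    (by rw [map_sub, map_pow, Polynomial.aeval_X, Polynomial.aeval_C, h.hs, map_one, sub_self])

theorem top : ⨆ μ : K, s.eigenspace μ = ⊤ := h.semisimple.iSup_eigenspace_eq_top

omit h in
theorem pow_apply_eig {z : K} {x : V} (hx : x ∈ s.eigenspace z) (M : ℕ) : (s ^ M) x = z ^ M • x := by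
  induction M with
  | zero => simp
  | succ M ih => rw [pow_succ', Module.End.mul_apply, ih, map_smul, mem_eigenspace_iff.1 hx, smul_smul, pow_succ]

theorem root_pow {z : K} (hz : s.eigenspace z ≠ ⊥) : z ^ N = 1 := by
  obtain ⟨x, hx, hx0⟩ := Submodule.exists_mem_ne_zero_of_ne_bot hz
  have h1 := pow_apply_eig hx N
  rw [h.hs, Module.End.one_apply] at h1
  have h2 : (z ^ N - 1) • x = 0 := by rw [sub_smul, one_smul, ← h1, sub_self]
  exact sub_eq_zero.1 ((smul_eq_zero.1 h2).resolve_right hx0)

theorem ext_eig {f g : Module.End K V} (hfg : ∀ z, ∀ x ∈ s.eigenspace z, f x = g x) : f = g := by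
  refine LinearMap.ext fun x => ?_
  have hx : x ∈ ⨆ μ : K, s.eigenspace μ := h.top ▸ Submodule.mem_top
  refine Submodule.iSup_induction (motive := fun x => f x = g x) _ hx hfg (by simp) fun a b ha hb => ?_
  rw [map_add, map_add, ha, hb]

theorem pow_eq_one {M : ℕ} (hM : ∀ z, s.eigenspace z ≠ ⊥ → z ^ M = 1) : s ^ M = 1 :=
  h.ext_eig fun z x hx => by
    by_cases hz : s.eigenspace z = ⊥
    · rw [hz, Submodule.mem_bot] at hx; rw [hx, map_zero, map_zero]
    · rw [pow_apply_eig hx, hM z hz, one_smul]; rfl

/-- A nonzero vector fixed by a power of `s` belongs to an eigenvalue killed by that power. -/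
theorem exists_root_of_fixed {M : ℕ} {x : V} (hx : (s ^ M) x = x) (hx0 : x ≠ 0) :
    ∃ z, s.eigenspace z ≠ ⊥ ∧ z ^ M = 1 := by
  classical
  by_contra hno
  push Not at hno
  refine hx0 ?_
  -- `s ^ M - 1` is injective
  have hinj : Function.Injective (s ^ M - 1 : Module.End K V) := by
    rw [← LinearMap.ker_eq_bot, eq_bot_iff]
    intro y hy
    have hsurj : Function.Surjective (s ^ M - 1 : Module.End K V) := by
      rw [← LinearMap.range_eq_top, eq_top_iff, ← h.top]
      refine iSup_le fun z w hw => ?_
      by_cases hz : s.eigenspace z = ⊥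
      · rw [hz, Submodule.mem_bot] at hw; rw [hw]; exact Submodule.zero_mem _
      · refine ⟨(z ^ M - 1)⁻¹ • w, ?_⟩
        rw [map_smul, LinearMap.sub_apply, Module.End.one_apply, pow_apply_eig hw]
        rw [show z ^ M • w - w = (z ^ M - 1) • w by rw [sub_smul, one_smul], smul_smul,
          inv_mul_cancel₀ (sub_ne_zero.2 (hno z hz)), one_smul]
    have := LinearMap.injective_iff_surjective.2 hsurj
    exact (Submodule.mem_bot K).2 (this (hy.trans (map_zero _).symm))
  exact hinj (by simp [hx])

omit h in
theorem sum_le (S : Finset K) : ∑ z ∈ S, finrank K (s.eigenspace z) ≤ finrank K V := by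
  classical
  have key : ∀ S : Finset K, ∑ z ∈ S, finrank K (s.eigenspace z) = finrank K ↥(⨆ z ∈ S, s.eigenspace z) := by
    intro S
    induction S using Finset.induction_on with
    | empty => rw [Finset.sum_empty, show (⨆ z ∈ (∅ : Finset K), s.eigenspace z) = ⊥ by simp, finrank_bot]
    | insert a S ha ih =>
      rw [Finset.sum_insert ha, ih, Finset.iSup_insert]
      have hd : Disjoint (s.eigenspace a) (⨆ z ∈ S, s.eigenspace z) :=
        (eigenspaces_iSupIndep s a).mono_right (iSup₂_mono' fun z hz => ⟨z, fun (e : z = a) => ha (e ▸ hz), le_rfl⟩)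
      have := Submodule.finrank_sup_add_finrank_inf_eq (s.eigenspace a) (⨆ z ∈ S, s.eigenspace z)
      rw [hd.eq_bot, finrank_bot, add_zero] at this
      exact this.symm
  rw [key]
  exact Submodule.finrank_le _

theorem orth {z w : K} {x y : V} (hx : x ∈ s.eigenspace z) (hy : y ∈ s.eigenspace w) (hzw : z * w ≠ 1) : B x y = 0 := by
  have h1 := h.iso x y
  simp only [mem_eigenspace_iff.1 hx, mem_eigenspace_iff.1 hy, map_smul, LinearMap.smul_apply, smul_eq_mul] at h1
  have h2 : (z * w - 1) * B x y = 0 := by linear_combination h1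
  exact (mul_eq_zero.1 h2).resolve_left (sub_ne_zero.2 hzw)

theorem pairing {z : K} {x : V} (hx : x ∈ s.eigenspace z) (h0 : ∀ y ∈ s.eigenspace z⁻¹, B x y = 0) : x = 0 := by
  refine h.nd x fun y => ?_
  have hy : y ∈ ⨆ μ : K, s.eigenspace μ := h.top ▸ Submodule.mem_top
  refine Submodule.iSup_induction (motive := fun y => B x y = 0) _ hy (fun w a ha => ?_) (map_zero _)
    fun a b ha hb => by rw [map_add, ha, hb, add_zero]
  by_cases hzw : z * w = 1
  · exact h0 a ((eq_inv_of_mul_eq_one_right hzw) ▸ ha)
  · exact h.orth hx ha hzw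

theorem dim_inv (z : K) : finrank K (s.eigenspace z) ≤ finrank K (s.eigenspace z⁻¹) := by
  let f : s.eigenspace z →ₗ[K] Module.Dual K (s.eigenspace z⁻¹) :=
    (LinearMap.lcomp K K (s.eigenspace z⁻¹).subtype).comp (LinearMap.comp B (s.eigenspace z).subtype)
  have hf : Function.Injective f := (injective_iff_map_eq_zero f).2 fun x hx =>
    Subtype.ext (h.pairing x.2 fun y hy => LinearMap.congr_fun hx ⟨y, hy⟩)
  exact (LinearMap.finrank_le_finrank_of_injective hf).trans_eq Subspace.dual_finrank_eq

/-- The top power of a unipotent isometry on an even dimensional nondegenerate space vanishes. -/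
theorem even_top (h2 : (2 : K) ≠ 0) {u : Module.End K V} (hu : ∀ x y, B (u x) (u y) = B x y) (hcs : Commute u s)
    (hn : IsNilpotent (u - 1)) {m : ℕ} (hm : Odd m) {z : K} (hz : z⁻¹ = z)
    (hd : finrank K (s.eigenspace z) ≤ m + 1) : ∀ x ∈ s.eigenspace z, ((u - 1) ^ m) x = 0 := by
  classical
  set n := u - 1 with hnd
  set U := s.eigenspace z
  have hU : ∀ x ∈ U, n x ∈ U := fun x hx => by
    refine U.sub_mem (mem_eigenspace_iff.2 ?_) hx
    have := LinearMap.congr_fun hcs.eq x
    simp only [Module.End.mul_apply] at this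
    rw [← this, mem_eigenspace_iff.1 hx, map_smul]
  have hnu : ∀ x, u x = n x + x := fun x => by simp [hnd]
  have htop : ∀ x ∈ U, (n ^ (m + 1)) x = 0 := pow_dim_eq_zero n hn U hU hd
  have hpU : ∀ (j : ℕ) x, x ∈ U → (n ^ j) x ∈ U := fun j => by
    induction j with
    | zero => exact fun x hx => hx
    | succ j ih => intro x hx; rw [pow_succ', Module.End.mul_apply]; exact hU _ (ih x hx)
  have hskew : ∀ x y, B (n x) (u y) = -B x (n y) := fun x y => by
    have h1 := hu x y
    simp only [hnu, map_add, LinearMap.add_apply] at h1 ⊢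
    linear_combination h1
  have hfix : ∀ x ∈ U, u ((n ^ m) x) = (n ^ m) x := fun x hx => by
    rw [hnu, ← Module.End.mul_apply, ← pow_succ', htop x hx, zero_add]
  have hker : ∀ x ∈ U, ∀ y, B ((n ^ m) x) (n y) = 0 := fun x hx y => by
    have h1 := hu ((n ^ m) x) y
    rw [hfix x hx, hnu, map_add, add_eq_right] at h1
    exact h1
  have hanti : ∀ x y, x ∈ U → B ((n ^ m) x) y = -B x ((n ^ m) y) := by
    intro x y hx
    have key : ∀ (j : ℕ) x y, B ((n ^ j) x) ((u ^ j) y) = (-1) ^ j * B x ((n ^ j) y) := by
      intro j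
      induction j with
      | zero => intro x y; simp
      | succ j ih =>
        intro x y
        rw [pow_succ' n, Module.End.mul_apply, pow_succ' u, Module.End.mul_apply, hskew]
        have hc : n ((u ^ j) y) = (u ^ j) (n y) := by
          rw [← Module.End.mul_apply, ← Module.End.mul_apply,
            (((Commute.refl u).sub_left (Commute.one_left u)).pow_right j).eq]
        rw [hc, ih, ← Module.End.mul_apply (n ^ j), ← pow_succ, ← pow_succ' n, pow_succ (-1 : K)]
        ring
    have hu' : ∀ j : ℕ, B ((n ^ m) x) ((u ^ j) y) = B ((n ^ m) x) y := fun j => by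
      induction j with
      | zero => rfl
      | succ j ih => rw [pow_succ', Module.End.mul_apply, hnu, map_add, hker x hx, zero_add, ih]
    rw [← hu' m, key, hm.neg_one_pow, neg_one_mul]
  -- rank at most one
  let W := U.map (n ^ m)
  have hW : finrank K W ≤ 1 := by
    have hs : ∀ j, j ≤ m → finrank K (U.map (n ^ j)) ≤ m + 1 - j ∨ ∀ x ∈ U, (n ^ m) x = 0 := by
      intro j
      induction j with
      | zero =>
        intro _; left
        rw [pow_zero, Module.End.one_eq_id, Submodule.map_id, Nat.sub_zero]
        exact hd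
      | succ j ih =>
        intro hj
        rcases ih (by omega) with h1 | h1
        · have hle : U.map (n ^ (j + 1)) ≤ U.map (n ^ j) := by
            rintro _ ⟨x, hx, rfl⟩
            exact ⟨n x, hU x hx, by rw [pow_succ, Module.End.mul_apply]⟩
          rcases eq_or_lt_of_le hle with e | e
          · right
            have he : ∀ t, U.map (n ^ (j + t)) = U.map (n ^ j) := fun t => by
              induction t with
              | zero => rfl
              | succ t iht =>
                rw [← add_assoc, pow_succ', Module.End.mul_eq_comp, Submodule.map_comp, iht, ← Submodule.map_comp,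
                  ← Module.End.mul_eq_comp, ← pow_succ', e]
            intro x hx
            have hbot : U.map (n ^ j) = ⊥ := by
              rw [← he (m + 1), eq_bot_iff]
              rintro _ ⟨y, hy, rfl⟩
              rw [Submodule.mem_bot, pow_add, Module.End.mul_apply, htop y hy, map_zero]
            have hmem : (n ^ m) x ∈ U.map (n ^ j) :=
              ⟨(n ^ (m - j)) x, hpU _ x hx, by rw [← Module.End.mul_apply, ← pow_add]; congr 2; omega⟩
            rw [hbot] at hmem
            exact hmem
          · left
            have := Submodule.finrank_lt_finrank_of_lt e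
            omega
        · exact Or.inr h1
    rcases hs m le_rfl with h1 | h1
    · exact h1.trans (by omega)
    · have : W = ⊥ := by
        rw [eq_bot_iff]; rintro _ ⟨x, hx, rfl⟩; exact (Submodule.mem_bot K).2 (h1 x hx)
      rw [this, finrank_bot]; omega
  intro x hx
  by_contra hne
  have hB0 : ∀ y ∈ U, B ((n ^ m) y) y = 0 := fun y hy => by
    have h1 := hanti y y hy
    rw [h.symm y] at h1
    have h2' : (2 : K) * B ((n ^ m) y) y = 0 := by linear_combination h1
    exact (mul_eq_zero.1 h2').resolve_left h2
  set e := (n ^ m) x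
  have hspan : ∀ y ∈ U, ∃ c : K, c • e = (n ^ m) y := fun y hy => by
    have he : (⟨e, x, hx, rfl⟩ : W) ≠ 0 := fun h0 => hne (congrArg Subtype.val h0)
    have hpos : 0 < finrank K W := Module.finrank_pos_iff_exists_ne_zero.2 ⟨⟨e, x, hx, rfl⟩, he⟩
    obtain ⟨c, hc⟩ := exists_smul_eq_of_finrank_eq_one (show finrank K W = 1 by omega) he ⟨_, y, hy, rfl⟩
    exact ⟨c, congrArg Subtype.val hc⟩
  have he0 : ∀ y ∈ U, B e y = 0 := fun y hy => by
    by_contra hy0
    obtain ⟨c, hc⟩ := hspan y hy
    have h1 := hB0 y hy
    rw [← hc, map_smul, LinearMap.smul_apply, smul_eq_mul, mul_eq_zero] at h1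
    have hc0 := h1.resolve_right hy0
    rw [hc0, zero_smul] at hc
    refine hy0 ?_
    have h3 := hanti x y hx
    rw [← hc, map_zero, neg_zero] at h3
    exact h3
  exact hne (h.pairing (z := z) (hpU m x hx) fun y hy => he0 y (by rw [hz] at hy; exact hy))

/-- A nilpotent map commuting with `s` is killed by a bound valid on every eigenspace. -/
theorem pow_eq_zero {n : Module.End K V} {k : ℕ}
    (hk : ∀ z, ∀ x ∈ s.eigenspace z, (n ^ k) x = 0) : n ^ k = 0 :=
  h.ext_eig fun z x hx => by rw [hk z x hx]; rfl

omit h in
theorem eig_invariant {f : Module.End K V} (hc : Commute f s) {z : K} {x : V} (hx : x ∈ s.eigenspace z) :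
    f x ∈ s.eigenspace z := mem_eigenspace_iff.2 (by
  have := LinearMap.congr_fun hc.eq x
  simp only [Module.End.mul_apply] at this
  rw [← this, mem_eigenspace_iff.1 hx, map_smul])

end Setting

section Semilinear

variable {ι : Type} [Fintype ι] [DecidableEq ι]

/-- Eigenspaces and a field automorphism fixing the matrix. -/
theorem dim_conj (A : Matrix ι ι K) (σ : K ≃+* K) (hA : A.map σ = A) (z : K) :
    finrank K ↥(Module.End.eigenspace (Matrix.toLin' A) z) ≤ finrank K ↥(Module.End.eigenspace (Matrix.toLin' A) (σ z)) := by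
  classical
  set U := Module.End.eigenspace (Matrix.toLin' A) z
  let b := Module.finBasis K U
  let v : Fin (finrank K U) → (ι → K) := fun i => (b i : ι → K)
  have hv : LinearIndependent K v := b.linearIndependent.map' U.subtype (Submodule.ker_subtype U)
  let j : (ι → K) →+ (ι → K) :=
    { toFun := fun x i => σ (x i), map_zero' := funext fun i => map_zero σ, map_add' := fun x y => funext fun i => map_add σ _ _ }
  have hj : LinearIndependent K (j ∘ v) := by
    refine hv.map_of_injective_injective (fun c => σ.symm c) j (fun r hr => ?_) (fun x hx => ?_) fun r m => ?_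
    · exact σ.symm.injective (hr.trans (map_zero _).symm)
    · funext i; exact σ.injective ((congrFun hx i).trans (map_zero σ).symm)
    · funext i
      simp [j]
  have hmem : ∀ i, j (v i) ∈ Module.End.eigenspace (Matrix.toLin' A) (σ z) := fun i => by
    rw [mem_eigenspace_iff, Matrix.toLin'_apply]
    have h1 := mem_eigenspace_iff.1 (b i).2
    rw [Matrix.toLin'_apply] at h1
    funext r
    have h2 := congrArg σ (congrFun h1 r)
    simp only [Matrix.mulVec, dotProduct, map_sum, map_mul, Pi.smul_apply, smul_eq_mul] at h2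
    simp only [Matrix.mulVec, dotProduct, Pi.smul_apply, smul_eq_mul]
    show ∑ c, A r c * σ (v i c) = σ z * σ (v i r)
    refine Eq.trans (Finset.sum_congr rfl fun c _ => ?_) h2
    congr 1
    exact (congrFun (congrFun hA r) c).symm
  have := (LinearIndependent.of_comp (v := fun i => (⟨j (v i), hmem i⟩ : ↥(Module.End.eigenspace (Matrix.toLin' A) (σ z))))
    (Module.End.eigenspace (Matrix.toLin' A) (σ z)).subtype hj).fintype_card_le_finrank
  simpa using this

end Semilinear

end Cfsg.Lib.SpectrumNine.Eig
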