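import Cfsg.Agent.Classical.Misc.Spinor
import Cfsg.Agent.Known.OrthFusion.Spin
import Cfsg.Agent.Known.FormNormal
import Mathlib

/-! Extending isometries of a subspace of a quadratic space by the identity on its orthogonal. -/

set_option autoImplicit false
set_option linter.style.haveILetI false
set_option linter.unusedSectionVars false

open QuadraticMap Cfsg.Lib.Classical.Refl Matrix

namespace Cfsg.Lib.SpectrumNine

universe u

variable {F : Type u} [Field F] {ι κ μ : Type} [Fintype ι] [DecidableEq ι] [Fintype κ] [DecidableEq κ]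
  [Fintype μ] [DecidableEq μ]

/-- An embedding of quadratic spaces up to a scalar. -/
structure Emb (R : QuadraticForm F (κ → F)) (Q : QuadraticForm F (ι → F)) where
  L : (κ → F) →ₗ[F] (ι → F)
  c : F
  hc : c ≠ 0
  hL : ∀ x, Q (L x) = c * R x
  hR : (polarBilin R).Nondegenerate

namespace Emb

variable {R : QuadraticForm F (κ → F)} {Q : QuadraticForm F (ι → F)} (e : Emb R Q)

theorem polar_L (x y : κ → F) : polar (⇑Q) (e.L x) (e.L y) = e.c * polar (⇑R) x y := by
  simp only [polar, ← map_add, e.hL]; ring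

/-- The orthogonal projection, pulled back. -/
noncomputable def proj : (ι → F) →ₗ[F] (κ → F) :=
  (LinearMap.BilinForm.toDual (polarBilin R) e.hR).symm.toLinearMap.comp
    (e.c⁻¹ • (LinearMap.lcomp F F e.L).comp (polarBilin Q))

theorem polar_proj (x : ι → F) (y : κ → F) :
    polar (⇑R) (e.proj x) y = e.c⁻¹ * polar (⇑Q) x (e.L y) :=
  LinearMap.BilinForm.apply_toDual_symm_apply (hB := e.hR) ((e.c⁻¹ • (LinearMap.lcomp F F e.L).comp (polarBilin Q)) x) y

theorem eq_of_polar (e : Emb R Q) {u v : κ → F} (h : ∀ y, polar (⇑R) u y = polar (⇑R) v y) : u = v :=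
  sub_eq_zero.1 (e.hR.1 _ fun y => by
    show polar (⇑R) (u - v) y = 0
    rw [QuadraticMap.polar_sub_left, h, sub_self])

theorem proj_L (x : κ → F) : e.proj (e.L x) = x :=
  e.eq_of_polar fun y => by rw [e.polar_proj, e.polar_L, inv_mul_cancel_left₀ e.hc]

theorem L_injective : Function.Injective e.L := fun x y h => by rw [← e.proj_L x, h, e.proj_L]

theorem proj_eq_zero {x : ι → F} (h : ∀ y, polar (⇑Q) x (e.L y) = 0) : e.proj x = 0 :=
  e.eq_of_polar fun y => by rw [e.polar_proj, h, mul_zero, QuadraticMap.polar_zero_left]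

theorem polar_sub_proj (x : ι → F) (y : κ → F) : polar (⇑Q) (x - e.L (e.proj x)) (e.L y) = 0 := by
  rw [QuadraticMap.polar_sub_left, e.polar_L, e.polar_proj, mul_inv_cancel_left₀ e.hc, sub_self]

/-- The extension as an endomorphism. -/
noncomputable def extEnd : Cfsg.isometryGroup F (⇑R) →* Module.End F (ι → F) where
  toFun g := 1 + e.L.comp ((Matrix.toLin' (mat R g) - 1).comp e.proj)
  map_one' := by
    refine LinearMap.ext fun x => ?_
    simp [mat, Matrix.toLin'_one]
  map_mul' g h := by
    refine LinearMap.ext fun x => ?_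
    have hm : mat R (g * h) *ᵥ e.proj x = mat R g *ᵥ (mat R h *ᵥ e.proj x) := mulVec_mul R g h _
    simp only [LinearMap.add_apply, Module.End.one_apply, LinearMap.comp_apply, LinearMap.sub_apply,
      Matrix.toLin'_apply, Module.End.mul_apply, map_add, map_sub, e.proj_L, hm, Matrix.mulVec_add,
      Matrix.mulVec_sub]
    abel

theorem extEnd_apply (g : Cfsg.isometryGroup F (⇑R)) (x : ι → F) :
    e.extEnd g x = x + e.L (mat R g *ᵥ e.proj x - e.proj x) := by
  simp [extEnd, Matrix.toLin'_apply]

theorem extEnd_iso (g : Cfsg.isometryGroup F (⇑R)) (x : ι → F) : Q (e.extEnd g x) = Q x := by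
  rw [e.extEnd_apply, QuadraticMap.map_add (f := Q), e.hL]
  set a := e.proj x
  set b := mat R g *ᵥ a
  have hb : R b = R a := (mem_iff R).mp g.2 a
  have h1 : polar (⇑Q) x (e.L (b - a)) = e.c * polar (⇑R) a (b - a) := by
    rw [e.polar_proj, mul_inv_cancel_left₀ e.hc]
  have h2 : R b = R a + R (b - a) + polar (⇑R) a (b - a) := by
    conv_lhs => rw [show b = a + (b - a) by abel, QuadraticMap.map_add (f := R)]
  rw [h1]
  linear_combination (norm := ring) e.c * hb - e.c * h2

/-- The extension on the matrix groups. -/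
noncomputable def extM : Cfsg.isometryGroup F (⇑R) →* Matrix ι ι F :=
  (LinearMap.toMatrixAlgEquiv' (R := F) (n := ι)).toMonoidHom.comp e.extEnd

theorem extM_mulVec (g : Cfsg.isometryGroup F (⇑R)) (x : ι → F) :
    e.extM g *ᵥ x = x + e.L (mat R g *ᵥ e.proj x - e.proj x) := by
  rw [← e.extEnd_apply]
  show LinearMap.toMatrix' (e.extEnd g) *ᵥ x = _
  rw [LinearMap.toMatrix'_mulVec]

/-- The extension. -/
noncomputable def ext : Cfsg.isometryGroup F (⇑R) →* Cfsg.isometryGroup F (⇑Q) :=
  e.extM.toHomUnits.codRestrict _ fun g => (mem_iff Q).mpr fun x => by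
    show Q (e.extM g *ᵥ x) = Q x
    rw [e.extM_mulVec, ← e.extEnd_apply]
    exact e.extEnd_iso g x

theorem ext_mulVec' (g : Cfsg.isometryGroup F (⇑R)) (x : ι → F) :
    mat Q (e.ext g) *ᵥ x = x + e.L (mat R g *ᵥ e.proj x - e.proj x) := e.extM_mulVec g x

theorem ext_L (g : Cfsg.isometryGroup F (⇑R)) (x : κ → F) :
    mat Q (e.ext g) *ᵥ e.L x = e.L (mat R g *ᵥ x) := by
  rw [e.ext_mulVec', e.proj_L, map_sub]; abel

theorem ext_orth (g : Cfsg.isometryGroup F (⇑R)) {x : ι → F} (h : ∀ y, polar (⇑Q) x (e.L y) = 0) :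
    mat Q (e.ext g) *ᵥ x = x := by
  rw [e.ext_mulVec', e.proj_eq_zero h]; simp

theorem ext_injective : Function.Injective e.ext := fun g h hgh => ext_mulVec R fun x =>
  e.L_injective (by rw [← e.ext_L, ← e.ext_L, hgh])

theorem ext_refl (v : κ → F) (hv : R v ≠ 0) :
    e.ext (refl R v hv) = refl Q (e.L v) (by rw [e.hL]; exact mul_ne_zero e.hc hv) := by
  refine ext_mulVec Q fun x => ?_
  change _ = Cfsg.reflectionMatrix (⇑Q) (e.L v) *ᵥ x
  rw [e.ext_mulVec', Cfsg.Lib.Classical.Refl.mulVec_eq]
  change x + e.L (Cfsg.reflectionMatrix (⇑R) v *ᵥ e.proj x - e.proj x) = _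
  rw [Cfsg.Lib.Classical.Refl.mulVec_eq, sub_sub_cancel_left, map_neg, map_smul, ← sub_eq_add_neg,
    QuadraticMap.polar_comm (⇑R) v, e.polar_proj, QuadraticMap.polar_comm (⇑Q) (e.L v), e.hL, mul_inv]
  congr 2
  ring

variable {S : QuadraticForm F (μ → F)} (f : Emb S Q)

/-- Two embeddings with orthogonal images. -/
def Orth : Prop := ∀ x y, polar (⇑Q) (e.L x) (f.L y) = 0

variable {e f}

theorem Orth.proj_L (h : e.Orth f) (y : μ → F) : e.proj (f.L y) = 0 :=
  e.proj_eq_zero fun x => by rw [QuadraticMap.polar_comm]; exact h x y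

theorem Orth.symm (h : e.Orth f) : f.Orth e := fun x y => by rw [QuadraticMap.polar_comm]; exact h y x

theorem Orth.mul_L (h : e.Orth f) (g : Cfsg.isometryGroup F (⇑R)) (g' : Cfsg.isometryGroup F (⇑S)) (x : κ → F) :
    mat Q (e.ext g * f.ext g') *ᵥ e.L x = e.L (mat R g *ᵥ x) := by
  rw [mat, mulVec_mul, show ((f.ext g' : Cfsg.isometryGroup F (⇑Q)) : GL ι F).1 *ᵥ e.L x = e.L x from
    f.ext_orth g' fun y => h x y]
  exact e.ext_L g x

theorem Orth.commute (h : e.Orth f) (g : Cfsg.isometryGroup F (⇑R)) (g' : Cfsg.isometryGroup F (⇑S)) :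
    Commute (e.ext g) (f.ext g') := by
  refine ext_mulVec Q fun x => ?_
  rw [mat, mat, mulVec_mul, mulVec_mul]
  change mat Q (e.ext g) *ᵥ (mat Q (f.ext g') *ᵥ x) = mat Q (f.ext g') *ᵥ (mat Q (e.ext g) *ᵥ x)
  rw [f.ext_mulVec', e.ext_mulVec', e.ext_mulVec', f.ext_mulVec', map_add, map_add, h.proj_L, h.symm.proj_L, add_zero,
    add_zero]
  abel

theorem Orth.orderOf_mul (h : e.Orth f) (g : Cfsg.isometryGroup F (⇑R)) (g' : Cfsg.isometryGroup F (⇑S)) :
    orderOf (e.ext g * f.ext g') = Nat.lcm (orderOf g) (orderOf g') := by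
  rw [← Prod.orderOf_mk, orderOf_eq_orderOf_iff]
  intro n
  rw [(h.commute g g').mul_pow, ← map_pow, ← map_pow, Prod.pow_mk, Prod.mk_eq_one]
  refine ⟨fun H => ⟨ext_mulVec R fun x => e.L_injective ?_, ext_mulVec S fun x => f.L_injective ?_⟩, fun H => by
    rw [H.1, H.2, map_one, map_one, one_mul]⟩
  · rw [← h.mul_L (g ^ n) (g' ^ n), H]
    simp [mat]
  · rw [← h.symm.mul_L (g' ^ n) (g ^ n), (h.symm.commute _ _).eq, H]
    simp [mat]

end Emb

section Characters

variable [Fintype F] [DecidableEq F] {R : QuadraticForm F (κ → F)} {Q : QuadraticForm F (ι → F)} (e : Emb R Q)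

omit [DecidableEq F] in
theorem card_field_ne_two (h2 : (2 : F) ≠ 0) : Fintype.card F ≠ 2 := fun h => h2 (by
  haveI : CharP F 2 := ringChar.eq_iff.1 (FiniteField.even_card_iff_char_two.2 (by rw [h]))
  exact CharTwo.two_eq_zero)

theorem det_ext (h2 : (2 : F) ≠ 0) (g : Cfsg.isometryGroup F (⇑R)) : detHom Q (e.ext g) = detHom R g := by
  have hg := mem_closure_refl R e.hR (Or.inl (card_field_ne_two h2)) g
  induction hg using Subgroup.closure_induction with
  | mem r hr =>
    obtain ⟨v, hv, rfl⟩ := hr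
    rw [e.ext_refl, detHom_refl, detHom_refl]
  | one => simp
  | mul a b _ _ ha hb => rw [map_mul, map_mul, map_mul, ha, hb]
  | inv a _ ha => rw [map_inv, map_inv, map_inv, ha]

/-- The spinor characters agree on proper isometries. -/
theorem spin_ext (h2 : (2 : F) ≠ 0) (hQ : (polarBilin Q).Nondegenerate) (hι : 2 ≤ Fintype.card ι)
    (hκ : 2 ≤ Fintype.card κ) (g : Cfsg.isometryGroup F (⇑R)) (hd : detHom R g = 1) :
    spin Q (e.ext g) = spin R g := by
  obtain ⟨εQ, hεQ⟩ := OrthFusion.spin_refl_class Q h2 hQ hι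
  obtain ⟨εR, hεR⟩ := OrthFusion.spin_refl_class R h2 e.hR hκ
  set δ := εQ * εR * OrthFusion.sqc (Units.mk0 e.c e.hc) with hδ
  have hneg : (-1 : Fˣ) ≠ 1 := fun h => h2 (by
    have := congrArg Units.val h; simp at this; linear_combination -this)
  have key : ∀ g : Cfsg.isometryGroup F (⇑R), (detHom R g = 1 ∧ spin Q (e.ext g) = spin R g) ∨
      (detHom R g = -1 ∧ spin Q (e.ext g) = δ * spin R g) := by
    intro g
    have hg := mem_closure_refl R e.hR (Or.inl (card_field_ne_two h2)) g
    induction hg using Subgroup.closure_induction with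
    | mem r hr =>
      obtain ⟨v, hv, rfl⟩ := hr
      refine Or.inr ⟨detHom_refl R v hv, ?_⟩
      have hm : Units.mk0 (Q (e.L v)) (by rw [e.hL]; exact mul_ne_zero e.hc hv) =
          Units.mk0 e.c e.hc * Units.mk0 (R v) hv := Units.ext (by simp [e.hL])
      rw [e.ext_refl, hεQ, hεR, hm, map_mul, hδ]
      rcases Int.units_eq_one_or εR with h | h <;> rw [h] <;> simp [mul_comm, mul_assoc]
    | one => simp
    | mul a b _ _ ha hb =>
      rcases ha with ⟨a1, a2⟩ | ⟨a1, a2⟩ <;> rcases hb with ⟨b1, b2⟩ | ⟨b1, b2⟩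
      · exact Or.inl ⟨by rw [map_mul, a1, b1, one_mul], by rw [map_mul, map_mul, a2, b2, map_mul]⟩
      · exact Or.inr ⟨by rw [map_mul, a1, b1, one_mul], by rw [map_mul, map_mul, a2, b2, map_mul, mul_left_comm]⟩
      · exact Or.inr ⟨by rw [map_mul, a1, b1, mul_one], by rw [map_mul, map_mul, a2, b2, map_mul, mul_assoc]⟩
      · refine Or.inl ⟨by rw [map_mul, a1, b1, neg_mul_neg, one_mul], ?_⟩
        rw [map_mul, map_mul, a2, b2, map_mul, mul_mul_mul_comm, Int.units_mul_self, one_mul]
    | inv a _ ha =>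
      rcases ha with ⟨a1, a2⟩ | ⟨a1, a2⟩
      · exact Or.inl ⟨by rw [map_inv, a1, inv_one], by rw [map_inv, map_inv, a2, map_inv]⟩
      · refine Or.inr ⟨by rw [map_inv, a1, inv_neg, inv_one], ?_⟩
        rw [map_inv, map_inv, a2, map_inv, mul_inv, Int.units_inv_eq_self]
  rcases key g with h | h
  · exact h.2
  · exact absurd (hd.symm.trans h.1).symm hneg

end Characters

section Existence

variable [Finite F] {Q : QuadraticForm F (ι → F)}

/-- Nondegenerate spaces embed in larger ones. -/
theorem exists_emb (h2 : (2 : F) ≠ 0) (R : QuadraticForm F (κ → F)) (hR : (polarBilin R).Nondegenerate)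
    (W : Submodule F (ι → F)) (hW : FormNormal.ND Q W) (hlt : Fintype.card κ < Module.finrank F W) :
    ∃ e : Emb R Q, ∀ x, e.L x ∈ W := by
  classical
  haveI : Invertible (2 : F) := invertibleOfNonzero h2
  obtain ⟨b, hb⟩ := LinearMap.BilinForm.exists_orthogonal_basis (B := polarBilin R)
    ⟨fun x y => QuadraticMap.polar_comm (⇑R) x y⟩
  have hbo : ∀ i j, i ≠ j → polar (⇑R) (b i) (b j) = 0 := fun i j h => hb h
  have hne : ∀ i, R (b i) ≠ 0 := fun i h0 => b.ne_zero i (hR.1 (b i) fun y => by
    rw [← b.sum_repr y, map_sum]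
    refine Finset.sum_eq_zero fun j _ => ?_
    rw [map_smul]
    change _ • polar (⇑R) (b i) (b j) = 0
    by_cases hij : i = j
    · subst hij; rw [QuadraticMap.polar_self, h0, smul_zero, smul_zero]
    · rw [hbo i j hij, smul_zero])
  have key : ∀ (k : ℕ) (d : Fin k → F) (W : Submodule F (ι → F)), FormNormal.ND Q W → k < Module.finrank F W →
      (∀ i, d i ≠ 0) → ∃ f : Fin k → (ι → F), (∀ i, f i ∈ W) ∧ (∀ i, Q (f i) = d i) ∧
        ∀ i j, i ≠ j → polar (⇑Q) (f i) (f j) = 0 := by
    intro k
    induction k with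
    | zero => exact fun d W _ _ _ => ⟨Fin.elim0, fun i => i.elim0, fun i => i.elim0, fun i => i.elim0⟩
    | succ k ih =>
      intro d W hnd hk hd
      obtain ⟨a, ha, hQa⟩ := FormNormal.exists_value Q W hnd (by omega) (d 0) (hd 0)
      have haa : polar (⇑Q) a a ≠ 0 := by
        rw [FormNormal.polar_self', hQa]; exact mul_ne_zero h2 (hd 0)
      have hdec : ∀ y ∈ W, y - (polar (⇑Q) a y / polar (⇑Q) a a) • a ∈ W ⊓ LinearMap.ker (polarBilin Q a) :=
        fun y hy => ⟨W.sub_mem hy (W.smul_mem _ ha), by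
          show polar (⇑Q) a _ = 0
          rw [QuadraticMap.polar_sub_right, QuadraticMap.polar_smul_right, smul_eq_mul, div_mul_cancel₀ _ haa,
            sub_self]⟩
      have hnd' : FormNormal.ND Q (W ⊓ LinearMap.ker (polarBilin Q a)) := fun x hx h => hnd x hx.1 fun y hy => by
        have h1 := h _ (hdec y hy)
        have h0 : polar (⇑Q) x a = 0 := by rw [QuadraticMap.polar_comm]; exact hx.2
        simpa [QuadraticMap.polar_sub_right, QuadraticMap.polar_smul_right, h0] using h1
      have hdim : Module.finrank F W ≤ Module.finrank F ↥(W ⊓ LinearMap.ker (polarBilin Q a)) + 1 := by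
        have h1 := LinearMap.finrank_range_add_finrank_ker ((polarBilin Q a).domRestrict W)
        have h3 : Module.finrank F (LinearMap.range ((polarBilin Q a).domRestrict W)) ≤ 1 :=
          (Submodule.finrank_le _).trans_eq (Module.finrank_self F)
        have h4 : Module.finrank F (LinearMap.ker ((polarBilin Q a).domRestrict W)) =
            Module.finrank F ↥(W ⊓ LinearMap.ker (polarBilin Q a)) :=
          LinearEquiv.finrank_eq
            { toFun := fun x => ⟨x.1.1, x.1.2, x.2⟩
              invFun := fun x => ⟨⟨x.1, x.2.1⟩, x.2.2⟩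
              map_add' := fun _ _ => rfl
              map_smul' := fun _ _ => rfl
              left_inv := fun _ => rfl
              right_inv := fun _ => rfl }
        omega
      obtain ⟨f, hf, hfd, hfo⟩ := ih (fun i => d i.succ) _ hnd' (by omega) fun i => hd _
      refine ⟨Fin.cons a f, Fin.cases ha fun i => (hf i).1, Fin.cases hQa hfd, fun i j hij => ?_⟩
      induction i using Fin.cases with
      | zero => induction j using Fin.cases with
        | zero => exact absurd rfl hij
        | succ j => exact (hf j).2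
      | succ i => induction j using Fin.cases with
        | zero => rw [QuadraticMap.polar_comm]; exact (hf i).2
        | succ j => simpa using hfo i j (fun h => hij (by rw [h]))
  let b' := b.reindex (finCongr (Module.finrank_fintype_fun_eq_card F))
  obtain ⟨f, hfW, hfd, hfo⟩ := key (Fintype.card κ) (fun i => R (b' i)) W hW hlt fun i => by
    simp [b', hne]
  let L := b'.constr F f
  have hLb : ∀ i, L (b' i) = f i := fun i => b'.constr_basis F f i
  refine ⟨⟨L, 1, one_ne_zero, fun x => ?_, hR⟩, fun x => ?_⟩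
  · rw [one_mul]
    refine FormNormal.eq_of_basis (Q.comp L) R b' (fun i => ?_) (fun i j => ?_) x
    · rw [QuadraticMap.comp_apply, hLb, hfd]
    · have hp : polar (⇑(Q.comp L)) (b' i) (b' j) = polar (⇑Q) (f i) (f j) := by
        simp only [polar, QuadraticMap.comp_apply, map_add, hLb]
      rw [hp]
      by_cases hij : i = j
      · subst hij
        rw [FormNormal.polar_self', FormNormal.polar_self', hfd]
      · rw [hfo i j hij]
        simp only [b', Module.Basis.reindex_apply]
        exact (hbo _ _ fun h => hij ((finCongr _).symm.injective h)).symm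
  · show L x ∈ W
    have hrange : LinearMap.range L ≤ W := by
      rw [b'.constr_range]
      exact Submodule.span_le.2 (Set.range_subset_iff.2 hfW)
    exact hrange ⟨x, rfl⟩

end Existence

section Images

variable {R : QuadraticForm F (κ → F)} {Q : QuadraticForm F (ι → F)} (e : Emb R Q)

/-- The orthogonal of the image. -/
def Emb.perp : Submodule F (ι → F) where
  carrier := {x | ∀ y, polar (⇑Q) x (e.L y) = 0}
  add_mem' ha hb y := by rw [QuadraticMap.polar_add_left, ha, hb, add_zero]
  zero_mem' y := QuadraticMap.polar_zero_left _ _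
  smul_mem' a x hx y := by rw [QuadraticMap.polar_smul_left, hx, smul_zero]

theorem Emb.perp_nd (hQ : (polarBilin Q).Nondegenerate) : FormNormal.ND Q e.perp := fun x hx h => hQ.1 x fun y => by
  show polar (⇑Q) x y = 0
  rw [show y = e.L (e.proj y) + (y - e.L (e.proj y)) by abel, QuadraticMap.polar_add_right, hx,
    h _ (e.polar_sub_proj y), add_zero]

theorem Emb.finrank_perp : Module.finrank F e.perp + Fintype.card κ = Fintype.card ι := by
  have hk : LinearMap.ker e.proj = e.perp := by
    ext x
    refine ⟨fun hx y => ?_, fun hx => e.proj_eq_zero hx⟩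
    have h := e.polar_proj x y
    rw [show e.proj x = 0 from hx, QuadraticMap.polar_zero_left] at h
    exact (mul_eq_zero.1 h.symm).resolve_left (inv_ne_zero e.hc)
  have hs : LinearMap.range e.proj = ⊤ := LinearMap.range_eq_top.2 fun x => ⟨e.L x, e.proj_L x⟩
  have h := LinearMap.finrank_range_add_finrank_ker e.proj
  rw [hs, hk, finrank_top, Module.finrank_fintype_fun_eq_card, Module.finrank_fintype_fun_eq_card] at h
  omega

/-- Two embeddings whose images are orthogonal and fill complementary spaces. -/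
theorem orth_of_mem_perp {μ : Type} [Fintype μ] [DecidableEq μ] {S : QuadraticForm F (μ → F)} (f : Emb S Q)
    (h : ∀ y, f.L y ∈ e.perp) : e.Orth f := fun x y => by rw [QuadraticMap.polar_comm]; exact h y x

end Images

end Cfsg.Lib.SpectrumNine
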