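import Cfsg.Agent.Known.SpectrumNine.Eig
import Cfsg.Agent.Known.SpectrumNine.Classes
import Cfsg.Agent.Known.SpectrumNine.Torus
import Mathlib

/-! Element orders of fixed point free elements of `Ω` in eight dimensions. -/

set_option autoImplicit false
set_option linter.style.haveILetI false
set_option linter.unusedSectionVars false

open QuadraticMap Cfsg.Lib.Classical Cfsg.Lib.Classical.Refl Matrix Module Module.End

namespace Cfsg.Lib.SpectrumNine

universe u

variable {F : Type u} [Field F] [Fintype F] {κ : Type} [Fintype κ] [DecidableEq κ]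

local notation "Kc" => AlgebraicClosure F

/-- The exceptional candidates for an element order. -/
def Target (q p N : ℕ) : Prop :=
  N ∣ (q ^ 4 - 1) / 2 ∨ N ∣ Nat.lcm (q ^ 3 - 1) (q + 1) ∨ N ∣ Nat.lcm (q ^ 3 + 1) (q - 1) ∨
    N ∣ p * Nat.lcm (q ^ 2 + 1) (q - 1) ∨ N ∣ p * Nat.lcm (q ^ 2 + 1) (q + 1) ∨ N ∣ p * (q ^ 2 - 1) ∨
    (p = 3 ∧ (N ∣ 9 * (q - 1) ∨ N ∣ 9 * (q + 1))) ∨ (p = 5 ∧ N ∣ 50)

/-- The free cycles of a semiregular isometry on the sphere, in any parity. -/
theorem semireg_dvd [DecidableEq F] {R : QuadraticForm F (κ → F)} {g : Cfsg.isometryGroup F (⇑R)} {N : ℕ}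
    (hN : g ^ N = 1) (hs : Semireg R g N) : N ∣ Nat.card {x : κ → F // R x = 1} := by
  classical
  rcases eq_or_ne N 1 with rfl | hN1
  · exact one_dvd _
  set σ := spherePerm R g with hσ
  have hpow : ∀ (k : ℕ) (x : {x : κ → F // R x = 1}), ((σ ^ k) x).1 = mat R (g ^ k) *ᵥ x.1 := fun k x => by
    rw [hσ, ← map_pow]; rfl
  have hne : ∀ x : {x : κ → F // R x = 1}, x.1 ≠ 0 := fun x h => by
    have := x.2
    rw [h, QuadraticMap.map_zero] at this
    exact zero_ne_one this
  have hall : ∀ n ∈ σ.cycleType, n = N := by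
    intro n hn
    obtain ⟨c, τ, hστ, hdis, hc, hcn⟩ := Equiv.Perm.mem_cycleType_iff.1 hn
    obtain ⟨x, hx⟩ := hc.nonempty_support
    rw [Equiv.Perm.mem_support] at hx
    have hτx : τ x = x := (hdis x).resolve_left hx
    have hcom : Commute c τ := hdis.commute
    have hcpow : c ^ n = 1 := by rw [← hcn, ← hc.orderOf, pow_orderOf_eq_one]
    refine Nat.dvd_antisymm ((Equiv.Perm.dvd_of_mem_cycleType hn).trans
      (orderOf_dvd_of_pow_eq_one (by rw [hσ, ← map_pow, hN, map_one]))) (hs x.1 (hne x) n ?_)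
    rw [← hpow, hστ, hcom.mul_pow, Equiv.Perm.mul_apply, Equiv.Perm.pow_apply_eq_self_of_apply_eq_self hτx, hcpow]
    rfl
  rw [Nat.card_eq_fintype_card, ← Finset.card_univ,
    show (Finset.univ : Finset {x : κ → F // R x = 1}) = σ.support from (Finset.eq_univ_iff_forall.2 fun x => ?_).symm,
    ← Equiv.Perm.sum_cycleType, Multiset.eq_replicate_card.2 hall, Multiset.sum_replicate]
  · exact dvd_mul_left _ _
  · rw [Equiv.Perm.mem_support]
    intro hx
    exact hN1 (Nat.dvd_one.1 (hs x.1 (hne x) 1 (by rw [← hpow, pow_one]; exact congrArg Subtype.val hx)))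

/-- The action over an algebraic closure. -/
noncomputable def endC (R : QuadraticForm F (κ → F)) : Cfsg.isometryGroup F (⇑R) →* Module.End Kc (κ → Kc) :=
  (Matrix.toLinAlgEquiv' (R := Kc) (n := κ)).toMonoidHom.comp
    (((algebraMap F Kc).mapMatrix (m := κ)).toMonoidHom.comp
      ((Units.coeHom _).comp (Cfsg.isometryGroup F (⇑R)).subtype))

theorem endC_apply (R : QuadraticForm F (κ → F)) (g : Cfsg.isometryGroup F (⇑R)) :
    endC R g = Matrix.toLin' ((mat R g).map (algebraMap F Kc)) := rfl

theorem endC_injective (R : QuadraticForm F (κ → F)) : Function.Injective (endC R) := fun g h e =>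
  Subtype.ext (Units.ext (Matrix.map_injective (algebraMap F Kc).injective
    ((Matrix.toLinAlgEquiv' (R := Kc) (n := κ)).injective e)))

theorem endC_baseChange (R : QuadraticForm F (κ → F)) (g : Cfsg.isometryGroup F (⇑R)) (x : κ → F) :
    endC R g (algebraMap F Kc ∘ x) = algebraMap F Kc ∘ (mat R g *ᵥ x) := by
  rw [endC_apply, Matrix.toLin'_apply]
  funext i
  exact ((algebraMap F Kc).map_mulVec (mat R g) x i).symm

/-- The setting over the closure attached to an element. -/
theorem exists_setting (R : QuadraticForm F (κ → F)) (hR : (polarBilin R).Nondegenerate) :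
    ∃ B : LinearMap.BilinForm Kc (κ → Kc), (∀ x y, B x y = B y x) ∧ (∀ x, (∀ y, B x y = 0) → x = 0) ∧
      ∀ g : Cfsg.isometryGroup F (⇑R), ∀ x y, B (endC R g x) (endC R g y) = B x y := by
  classical
  set G : Matrix κ κ F := LinearMap.BilinForm.toMatrix' (polarBilin R) with hG
  have hGd : G.det ≠ 0 := LinearMap.BilinForm.nondegenerate_toMatrix'_iff.2 hR |>.det_ne_zero
  have hGs : Gᵀ = G := Matrix.ext fun i j => by
    simp only [hG, Matrix.transpose_apply, LinearMap.BilinForm.toMatrix'_apply]
    exact QuadraticMap.polar_comm (⇑R) _ _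
  let B := Matrix.toBilin' (G.map (algebraMap F Kc))
  refine ⟨B, fun x y => ?_, ?_, fun g => ?_⟩
  · simp only [B, Matrix.toBilin'_apply']
    rw [Matrix.dotProduct_mulVec, ← Matrix.mulVec_transpose, ← Matrix.transpose_map, hGs, dotProduct_comm]
  · have hd : (G.map (algebraMap F Kc)).det ≠ 0 := by
      rw [← RingHom.mapMatrix_apply, ← RingHom.map_det]
      exact (_root_.map_ne_zero _).2 hGd
    exact (Matrix.nondegenerate_toBilin'_iff.2 (Matrix.nondegenerate_iff_det_ne_zero.2 hd)).1
  · set A := mat R g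
    have hA : Aᵀ * G * A = G := by
      have e : LinearMap.BilinForm.comp (polarBilin R : LinearMap.BilinForm F (κ → F)) (Matrix.toLin' A) (Matrix.toLin' A) =
          polarBilin R := LinearMap.ext₂ fun x y => by
        show polar (⇑R) (Matrix.toLin' A x) (Matrix.toLin' A y) = _
        rw [Matrix.toLin'_apply, Matrix.toLin'_apply]
        exact polar_act R g x y
      have := congrArg LinearMap.BilinForm.toMatrix' e
      rwa [LinearMap.BilinForm.toMatrix'_comp, LinearMap.toMatrix'_toLin'] at this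
    intro x y
    have h := LinearMap.congr_fun₂ (Matrix.toBilin'_comp (G.map (algebraMap F Kc))
      (A.map (algebraMap F Kc)) (A.map (algebraMap F Kc))) x y
    rw [← Matrix.transpose_map, ← Matrix.map_mul, ← Matrix.map_mul, hA] at h
    exact h

theorem frobenius_fixed (M : Matrix κ κ F) (σ : Kc ≃+* Kc) (hσ : ∀ x, σ x = x ^ Fintype.card F) :
    (M.map (algebraMap F Kc)).map σ = M.map (algebraMap F Kc) :=
  Matrix.ext fun i j => by rw [Matrix.map_apply, Matrix.map_apply, hσ, ← map_pow, FiniteField.pow_card]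

theorem exists_frobenius (p : ℕ) [Fact p.Prime] [CharP F p] :
    ∃ σ : Kc ≃+* Kc, ∀ x, σ x = x ^ Fintype.card F := by
  obtain ⟨e, -, he⟩ := FiniteField.card F p
  haveI : CharP Kc p := charP_of_injective_algebraMap (algebraMap F Kc).injective p
  haveI : ExpChar Kc p := ExpChar.prime Fact.out
  haveI : PerfectRing Kc p := PerfectField.toPerfectRing p
  exact ⟨iterateFrobeniusEquiv Kc p e, fun x => by rw [he]; rfl⟩

/-- The bound. -/
theorem upper [DecidableEq F] (h2 : (2 : F) ≠ 0) (p : ℕ) [Fact p.Prime] [CharP F p] (hp2 : p ≠ 2)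
    (R : QuadraticForm F (κ → F)) (hR : (polarBilin R).Nondegenerate) (hκ : Fintype.card κ = 8)
    (hplus : IsPlus R 4) (g : Cfsg.isometryGroup F (⇑R)) (hfree : ∀ x, mat R g *ᵥ x = x → x = 0)
    (hspin : spin R g = 1) : Target (Fintype.card F) p (orderOf g) := by
  classical
  have hp : p.Prime := Fact.out
  have hp3 : 3 ≤ p := by have := hp.two_le; omega
  have hpo : Odd p := hp.odd_of_ne_two hp2
  set q := Fintype.card F with hq
  have hqodd : Odd q := Nat.odd_iff.2 (by
    rcases Nat.mod_two_eq_zero_or_one q with h | h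
    · exfalso
      haveI : CharP F 2 := ringChar.eq_iff.1 (FiniteField.even_card_iff_char_two.2 h)
      exact h2 CharTwo.two_eq_zero
    · exact h)
  have hq3 : 3 ≤ q := by
    have := Fintype.one_lt_card (α := F)
    obtain ⟨k, hk⟩ := hqodd
    omega
  obtain ⟨b, N', hpN', hN⟩ := Nat.exists_eq_pow_mul_and_not_dvd (orderOf_pos g).ne' p hp.ne_one
  set s := g ^ p ^ b with hs
  set u := g ^ N' with hu
  have hN'0 : 0 < N' := Nat.pos_of_ne_zero fun h => hpN' (h ▸ dvd_zero p)
  have hso : orderOf s = N' := by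
    rw [hs, orderOf_pow_of_dvd (pow_ne_zero _ hp.ne_zero) (hN ▸ dvd_mul_right _ _), hN,
      Nat.mul_div_cancel_left _ (pow_pos hp.pos _)]
  have huo : orderOf u = p ^ b := by
    rw [hu, orderOf_pow_of_dvd hN'0.ne' (hN ▸ dvd_mul_left _ _), hN, Nat.mul_div_cancel _ hN'0]
  have hsfree : ∀ x, mat R s *ᵥ x = x → x = 0 := by
    intro x hx
    let fs := fun v : κ → F => mat R g *ᵥ v
    have hit : ∀ k (v : κ → F), fs^[k] v = mat R (g ^ k) *ᵥ v := fun k => by
      induction k with
      | zero => intro v; simp [mat]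
      | succ k ih => intro v; rw [Function.iterate_succ', Function.comp_apply, ih, pow_succ', mat, mat, mulVec_mul]
    -- a fixed vector of `u` inside the fixed space of `s`
    by_contra hx0
    have hcs : ∀ v, mat R s *ᵥ v = v → mat R s *ᵥ (mat R u *ᵥ v) = mat R u *ᵥ v := fun v hv => by
      conv_lhs => rw [mat, mat, ← mulVec_mul, show s * u = u * s from ((Commute.refl g).pow_pow _ _).eq, mulVec_mul]
      rw [show ((s : GL κ F) : Matrix κ κ F) *ᵥ v = v from hv]
    let n : Module.End F (κ → F) := Matrix.toLin' (mat R u) - 1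
    have hun : ∀ v, n v = mat R u *ᵥ v - v := fun v => by simp [n, Matrix.toLin'_apply]
    have hnil : n ^ p ^ b = 0 := by
      haveI : Nonempty κ := Fintype.card_pos_iff.1 (by omega)
      haveI : CharP (Module.End F (κ → F)) p :=
        charP_of_injective_algebraMap (algebraMap F (Module.End F (κ → F))).injective p
      rw [sub_pow_char_pow_of_commute p b (Commute.one_right _), one_pow, sub_eq_zero, ← Matrix.toLin'_pow]
      let mh : Cfsg.isometryGroup F (⇑R) →* Matrix κ κ F :=
        (Units.coeHom _).comp (Cfsg.isometryGroup F (⇑R)).subtype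
      rw [show mat R u ^ p ^ b = mh (u ^ p ^ b) from (map_pow mh u _).symm, ← huo, pow_orderOf_eq_one, map_one,
        Matrix.toLin'_one]
      rfl
    have key : ∀ (k : ℕ) (v : κ → F), mat R s *ᵥ v = v → v ≠ 0 → (n ^ k) v = 0 →
        ∃ w, w ≠ 0 ∧ mat R s *ᵥ w = w ∧ mat R u *ᵥ w = w := by
      intro k
      induction k with
      | zero => intro v _ hv0 hv; exact absurd hv hv0
      | succ k ih =>
        intro v hv hv0 hvk
        by_cases h1 : n v = 0
        · exact ⟨v, hv0, hv, sub_eq_zero.1 (by rw [← hun, h1])⟩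
        · rw [pow_succ, Module.End.mul_apply] at hvk
          refine ih _ ?_ h1 hvk
          rw [hun, Matrix.mulVec_sub, hcs v hv, hv]
    obtain ⟨w, hw0, hws, hwu⟩ := key _ x hx hx0 (by rw [hnil]; rfl)
    refine hw0 (hfree w ?_)
    have h1 : Function.IsPeriodicPt fs (Nat.gcd (p ^ b) N') w :=
      Function.IsPeriodicPt.gcd (show fs^[p ^ b] w = w by rw [hit]; exact hws)
        (show fs^[N'] w = w by rw [hit]; exact hwu)
    rw [(Nat.Coprime.pow_left b (hp.coprime_iff_not_dvd.2 hpN')).gcd_eq_one] at h1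
    exact h1
  obtain ⟨B, hBs, hBn, hBi⟩ := exists_setting R hR
  obtain ⟨σ, hσ⟩ := exists_frobenius (F := F) p
  set S := endC R s with hS
  have hSN : S ^ N' = 1 := by rw [hS, ← map_pow, ← hso, pow_orderOf_eq_one, map_one]
  have hset : Eig.Setting B S N' :=
    ⟨hBs, hBn, hBi s, hSN, fun h => hpN' ((CharP.cast_eq_zero_iff F p N').1
      ((algebraMap F Kc).injective (by rw [map_natCast, map_zero]; exact h)))⟩
  have hcardK : Module.finrank Kc (κ → Kc) = 8 := by rw [Module.finrank_fintype_fun_eq_card, hκ]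
  have h2K : (2 : Kc) ≠ 0 := fun h => h2 ((algebraMap F Kc).injective (by rw [map_ofNat, map_zero]; exact h))
  let W : Weights Kc :=
    { q := q
      hq := hqodd
      hq3 := hq3
      inj := fun x y h => σ.injective (by rw [hσ, hσ]; exact h)
      two := h2K
      d := fun z => Module.finrank Kc (S.eigenspace z)
      frob := fun z => by
        rw [hS, endC_apply]
        have := Eig.dim_conj _ σ (frobenius_fixed (mat R s) σ hσ) z
        rwa [hσ] at this
      inv := hset.dim_inv
      one := by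
        rw [Submodule.finrank_eq_zero, eq_bot_iff]
        intro x hx
        rw [Submodule.mem_bot]
        by_contra hx0
        have hdet : ((mat R s - 1).map (algebraMap F Kc)).det = 0 := by
          refine Matrix.exists_mulVec_eq_zero_iff.1 ⟨x, hx0, ?_⟩
          have h := Module.End.mem_eigenspace_iff.1 hx
          rw [hS, endC_apply, one_smul, Matrix.toLin'_apply] at h
          rw [Matrix.map_sub _ (map_sub _), Matrix.map_one _ (map_zero _) (map_one _), Matrix.sub_mulVec,
            Matrix.one_mulVec, h, sub_self]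
        rw [← RingHom.mapMatrix_apply, ← RingHom.map_det, map_eq_zero] at hdet
        obtain ⟨v, hv0, hv⟩ := Matrix.exists_mulVec_eq_zero_iff.2 hdet
        exact hv0 (hsfree v (by rwa [Matrix.sub_mulVec, Matrix.one_mulVec, sub_eq_zero] at hv))
      zero := by
        rw [Submodule.finrank_eq_zero, eq_bot_iff]
        intro x hx
        have h1 := Eig.Setting.pow_apply_eig hx N'
        rw [hSN, zero_pow hN'0.ne', zero_smul] at h1
        exact h1
      sum := fun T => (Eig.Setting.sum_le T).trans_eq hcardK }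
  have hkill : ∀ M, W.Kills M → N' ∣ M := fun M hM => by
    rw [← hso]
    refine orderOf_dvd_of_pow_eq_one (endC_injective R ?_)
    rw [map_pow, map_one]
    exact hset.pow_eq_one fun z hz => hM z (Nat.pos_of_ne_zero fun h => hz (Submodule.finrank_eq_zero.1 h))
  have hWd : ∀ z, W.d z = Module.finrank Kc (S.eigenspace z) := fun z => rfl
  have hWq : W.q = q := rfl
  rcases Nat.eq_zero_or_pos b with rfl | hb
  · -- semisimple
    rw [pow_zero, one_mul] at hN
    have hsg : s = g := by rw [hs, pow_zero, pow_one]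
    rcases W.semisimple_cases with hfull | h | h | h
    · refine Or.inl ?_
      have hsemi : Semireg R g (orderOf g) := by
        intro x hx k hk
        have hKx : (S ^ k) (algebraMap F Kc ∘ x) = algebraMap F Kc ∘ x := by
          rw [hS, ← map_pow, endC_baseChange, hsg, hk]
        obtain ⟨w, hw, hwk⟩ := hset.exists_root_of_fixed hKx fun h => hx (funext fun i =>
          (algebraMap F Kc).injective ((congrFun h i).trans (map_zero _).symm))
        rw [hN]
        exact hkill k fun z hz =>
          hfull w z (Nat.pos_of_ne_zero fun h => hw (Submodule.finrank_eq_zero.1 h)) hz k hwk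
      have hcard : Nat.card {x : κ → F // R x = 1} = q ^ 3 * (q ^ 4 - 1) :=
        (card_sphere hR (show 1 ≤ 4 by omega) (by omega)).1 hplus
      have hdvd : orderOf g ∣ q ^ 4 - 1 := by
        have h := semireg_dvd (pow_orderOf_eq_one g) hsemi
        rw [hcard] at h
        refine Nat.Coprime.dvd_of_dvd_mul_left (Nat.Coprime.pow_right 3 ?_) h
        obtain ⟨e, -, he⟩ := FiniteField.card F p
        rw [hq, he, hN]
        exact Nat.Coprime.pow_right _ (Nat.coprime_comm.1 (hp.coprime_iff_not_dvd.2 hpN'))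
      obtain ⟨m, hm⟩ := hdvd
      have h16 : 2 ∣ q ^ 4 - 1 := (Nat.Odd.sub_odd hqodd.pow odd_one).two_dvd
      rcases Nat.even_or_odd (orderOf g) with hev | hod
      · obtain ⟨c, hc, hsign⟩ := semireg_sphere (pow_orderOf_eq_one g) hev
          (fun h1 => by rw [h1] at hev; exact absurd hev (by decide)) hsemi
        rw [hspin] at hsign
        have hceven : Even c := by
          by_contra hodd
          rw [(Nat.not_even_iff_odd.1 hodd).neg_one_pow] at hsign
          exact absurd hsign (by decide)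
        rw [hcard, hm, ← mul_assoc, mul_comm (q ^ 3), mul_assoc] at hc
        have hc' : c = q ^ 3 * m := (Nat.eq_of_mul_eq_mul_left (orderOf_pos g) hc).symm
        have hm2 : Even m := by
          rw [hc', Nat.even_mul] at hceven
          exact hceven.resolve_left (Nat.not_even_iff_odd.2 hqodd.pow)
        obtain ⟨m', rfl⟩ := hm2
        rw [hm, show orderOf g * (m' + m') = 2 * (orderOf g * m') by ring, Nat.mul_div_cancel_left _ two_pos]
        exact dvd_mul_right _ _
      · refine (Nat.Coprime.dvd_of_dvd_mul_left (Nat.coprime_two_right.2 hod) ?_)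
        rw [Nat.mul_div_cancel' h16, hm]
        exact dvd_mul_right _ _
    · exact Or.inl (hN ▸ hWq ▸ hkill _ h)
    · exact Or.inr (Or.inl (hN ▸ hWq ▸ hkill _ h))
    · exact Or.inr (Or.inr (Or.inl (hN ▸ hWq ▸ hkill _ h)))
  -- a unipotent part
  set U := endC R u with hU
  have hcomm : Commute U S := ((Commute.refl g).pow_pow _ _).map (endC R)
  have hcomm' : Commute (U - 1) S := hcomm.sub_left (Commute.one_left S)
  haveI : Nonempty κ := Fintype.card_pos_iff.1 (by omega)
  haveI : CharP Kc p := charP_of_injective_algebraMap (algebraMap F Kc).injective p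
  haveI : CharP (Module.End Kc (κ → Kc)) p :=
    charP_of_injective_algebraMap (algebraMap Kc (Module.End Kc (κ → Kc))).injective p
  have hpow : ∀ a, (U - 1) ^ p ^ a = 0 → p ^ b ∣ p ^ a := fun a ha => by
    rw [sub_pow_char_pow_of_commute p a (Commute.one_right _), one_pow, sub_eq_zero, hU, ← map_pow, ← map_one (endC R)] at ha
    exact huo ▸ orderOf_dvd_of_pow_eq_one (endC_injective R ha)
  have hnil : IsNilpotent (U - 1) := ⟨p ^ b, by
    rw [sub_pow_char_pow_of_commute p b (Commute.one_right _), one_pow, sub_eq_zero, hU, ← map_pow, ← huo,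
      pow_orderOf_eq_one, map_one]⟩
  have hinv : ∀ z, ∀ x ∈ S.eigenspace z, (U - 1) x ∈ S.eigenspace z := fun z x hx =>
    Eig.Setting.eig_invariant hcomm' hx
  have hsmall : ∀ k, Odd k → ¬ W.Rep k → (U - 1) ^ k = 0 := fun k hk hrep => hset.pow_eq_zero fun z x hx => by
    simp only [Weights.Rep, not_or, not_exists, not_and, not_lt, not_le, hWd] at hrep
    by_cases hz : z = -1
    · exact hset.even_top h2K (hBi u) hcomm hnil hk (by rw [hz, inv_neg, inv_one]) (by
        rw [hz]; have := hrep.2; omega) x hx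
    · exact Eig.pow_dim_eq_zero _ hnil _ (hinv z) (hrep.1 z hz) x hx
  have h8 : (U - 1) ^ 8 = 0 :=
    LinearMap.ext fun x => Eig.pow_dim_eq_zero _ hnil ⊤ (fun _ _ => trivial) (by rw [finrank_top, hcardK]) x trivial
  have hle2 : p ^ b ∣ p ^ 2 := hpow 2 (pow_eq_zero_of_le (by nlinarith) h8)
  have hb2 : b ≤ 2 := (Nat.pow_dvd_pow_iff_le_right hp.one_lt).1 hle2
  have hrep1 : W.Rep 1 := by
    by_contra hr
    have h := hpow 0 (by rw [pow_zero]; exact hsmall 1 odd_one hr)
    have := (Nat.pow_dvd_pow_iff_le_right hp.one_lt).1 h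
    omega
  have hdv : ∀ {T M : ℕ}, p ^ b ∣ T → N' ∣ M → orderOf g ∣ T * M := fun h1 h2 => hN ▸ Nat.mul_dvd_mul h1 h2
  rcases (show b = 1 ∨ b = 2 by omega) with rfl | rfl
  · rcases W.repeated_cases hrep1 with h | h | h
    · exact Or.inr (Or.inr (Or.inr (Or.inl (hdv (by rw [pow_one]) (hWq ▸ hkill _ h)))))
    · exact Or.inr (Or.inr (Or.inr (Or.inr (Or.inl (hdv (by rw [pow_one]) (hWq ▸ hkill _ h))))))
    · exact Or.inr (Or.inr (Or.inr (Or.inr (Or.inr (Or.inl (hdv (by rw [pow_one]) (hWq ▸ hkill _ h)))))))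
  · have hrep : W.Rep p := by
      by_contra hr
      have h := hpow 1 (by rw [pow_one]; exact hsmall p hpo hr)
      have := (Nat.pow_dvd_pow_iff_le_right hp.one_lt).1 h
      omega
    rcases W.high_cases hp3 hpo hrep with ⟨h3, h | h⟩ | ⟨h5, h⟩
    · exact Or.inr (Or.inr (Or.inr (Or.inr (Or.inr (Or.inr (Or.inl ⟨h3, Or.inl (hdv (by subst h3; norm_num) (hWq ▸ hkill _ h))⟩))))))
    · exact Or.inr (Or.inr (Or.inr (Or.inr (Or.inr (Or.inr (Or.inl ⟨h3, Or.inr (hdv (by subst h3; norm_num) (hWq ▸ hkill _ h))⟩))))))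
    · refine Or.inr (Or.inr (Or.inr (Or.inr (Or.inr (Or.inr (Or.inr ⟨h5, ?_⟩))))))
      rw [show (50 : ℕ) = 25 * 2 by norm_num]
      exact hdv (by subst h5; norm_num) (hkill _ h)

end Cfsg.Lib.SpectrumNine
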