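import Cfsg.Agent.Known.SpectrumNine.Unip
import Cfsg.Agent.Known.SpectrumNine.Upper
import Mathlib

/-! The orthogonal splitting of an isometry along its generalised fixed space. -/

set_option autoImplicit false
set_option linter.style.haveILetI false
set_option linter.unusedSectionVars false

open QuadraticMap Cfsg.Lib.Classical Cfsg.Lib.Classical.Refl Matrix

namespace Cfsg.Lib.SpectrumNine

universe u

variable {F : Type u} [Field F] [Fintype F] {ι κ : Type} [Fintype ι] [DecidableEq ι] [Fintype κ] [DecidableEq κ]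

theorem det_pm (h2 : (2 : F) ≠ 0) (Q : QuadraticForm F (ι → F)) (hQ : (polarBilin Q).Nondegenerate)
    (g : Cfsg.isometryGroup F (⇑Q)) : detHom Q g * detHom Q g = 1 := by
  classical
  have hg := mem_closure_refl Q hQ (Or.inl (card_field_ne_two h2)) g
  induction hg using Subgroup.closure_induction with
  | mem r hr => obtain ⟨v, hv, rfl⟩ := hr; rw [detHom_refl, neg_mul_neg, one_mul]
  | one => simp
  | mul a b _ _ ha hb => rw [map_mul, mul_mul_mul_comm, ha, hb, one_mul]
  | inv a _ ha => rw [map_inv, ← mul_inv, ha, inv_one]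

theorem odd_triv [DecidableEq F] (h2 : (2 : F) ≠ 0) (Q : QuadraticForm F (ι → F))
    (hQ : (polarBilin Q).Nondegenerate) (g : Cfsg.isometryGroup F (⇑Q)) (hg : Odd (orderOf g)) :
    detHom Q g = 1 ∧ spin Q g = 1 := by
  obtain ⟨k, hk⟩ := hg
  constructor
  · have h1 : detHom Q g ^ orderOf g = 1 := by rw [← map_pow, pow_orderOf_eq_one, map_one]
    rw [hk, pow_succ, pow_mul, pow_two, det_pm h2 Q hQ, one_pow, one_mul] at h1
    exact h1
  · have h1 : spin Q g ^ orderOf g = 1 := by rw [← map_pow, pow_orderOf_eq_one, map_one]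
    rw [hk, pow_succ, pow_mul, pow_two, Int.units_mul_self, one_pow, one_mul] at h1
    exact h1

/-- A nilpotent part of index below a power of `p` gives that exponent. -/
theorem pow_eq_one_of_nilp (p : ℕ) [Fact p.Prime] [CharP F p] [Nonempty ι] {Q : QuadraticForm F (ι → F)}
    (g : Cfsg.isometryGroup F (⇑Q)) {k t : ℕ} (hk : (Matrix.toLin' (mat Q g) - 1) ^ k = 0) (ht : k ≤ p ^ t) :
    g ^ p ^ t = 1 := by
  haveI : CharP (Module.End F (ι → F)) p :=
    charP_of_injective_algebraMap (algebraMap F (Module.End F (ι → F))).injective p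
  have h := pow_eq_zero_of_le ht hk
  rw [sub_pow_char_pow_of_commute p t (Commute.one_right _), one_pow, sub_eq_zero, ← Matrix.toLin'_pow,
    show (1 : Module.End F (ι → F)) = Matrix.toLin' 1 from Matrix.toLin'_one.symm] at h
  let mh : Cfsg.isometryGroup F (⇑Q) →* Matrix ι ι F := (Units.coeHom _).comp (Cfsg.isometryGroup F (⇑Q)).subtype
  have h' : mh (g ^ p ^ t) = mh 1 := by rw [map_pow, map_one]; exact Matrix.toLin'.injective h
  exact Subtype.ext (Units.ext h')

/-- In even dimension the last power of a unipotent part vanishes. -/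
theorem unip_even_index (h2 : (2 : F) ≠ 0) {Q : QuadraticForm F (ι → F)} (hQ : (polarBilin Q).Nondegenerate)
    (g : Cfsg.isometryGroup F (⇑Q)) {m : ℕ} (hm : Odd m) (hι : Fintype.card ι = m + 1)
    (hnil : (Matrix.toLin' (mat Q g) - 1) ^ (m + 1) = 0) : (Matrix.toLin' (mat Q g) - 1) ^ m = 0 := by
  classical
  obtain ⟨B, hBs, hBn, hBi⟩ := exists_setting Q hQ
  have h2K : (2 : AlgebraicClosure F) ≠ 0 := fun h =>
    h2 ((algebraMap F (AlgebraicClosure F)).injective (by rw [map_ofNat, map_zero]; exact h))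
  let e : Module.End F (ι → F) →+* Module.End (AlgebraicClosure F) (ι → AlgebraicClosure F) :=
    ((Matrix.toLinAlgEquiv' (R := AlgebraicClosure F) (n := ι)).toRingHom.comp
      (algebraMap F (AlgebraicClosure F)).mapMatrix).comp
      (LinearMap.toMatrixAlgEquiv' (R := F) (n := ι)).toRingHom
  have he : e (Matrix.toLin' (mat Q g) - 1) = endC Q g - 1 := by
    have hex : e (Matrix.toLin' (mat Q g)) =
        Matrix.toLin' ((LinearMap.toMatrix' (Matrix.toLin' (mat Q g))).map (algebraMap F (AlgebraicClosure F))) := rfl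
    rw [map_sub, map_one, endC_apply, hex, LinearMap.toMatrix'_toLin']
  have hinj : Function.Injective e := fun x y h => by
    exact LinearMap.toMatrixAlgEquiv'.injective (Matrix.map_injective (algebraMap F _).injective
      ((Matrix.toLinAlgEquiv' (R := AlgebraicClosure F) (n := ι)).injective h))
  have hset : Eig.Setting B 1 1 := ⟨hBs, hBn, fun x y => rfl, pow_one 1, by simp⟩
  refine hinj ?_
  rw [map_pow, he, map_zero]
  refine LinearMap.ext fun x => ?_
  exact hset.even_top h2K (hBi g) (Commute.one_right _)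
    ⟨m + 1, by rw [← he, ← map_pow, hnil, map_zero]⟩ hm (z := 1) inv_one
    ((Submodule.finrank_le _).trans (by rw [Module.finrank_fintype_fun_eq_card, hι])) x
    (Module.End.mem_eigenspace_iff.2 (one_smul _ x).symm)

/-- An isometric embedding of a nondegenerate subspace, with a restricted isometry. -/
theorem exists_restrict [DecidableEq F] (Q : QuadraticForm F (ι → F)) (g : Cfsg.isometryGroup F (⇑Q))
    (U : Submodule F (ι → F)) (hU : FormNormal.ND Q U) (hgU : ∀ x ∈ U, mat Q g *ᵥ x ∈ U) :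
    ∃ (R : QuadraticForm F (Fin (Module.finrank F U) → F)) (e : Emb R Q) (x : Cfsg.isometryGroup F (⇑R)),
      (∀ v, e.L v ∈ U) ∧ (∀ y ∈ U, ∃ v, e.L v = y) ∧ ∀ v, e.L (mat R x *ᵥ v) = mat Q g *ᵥ e.L v := by
  let b := (Module.finBasis F U).equivFun
  let L : (Fin (Module.finrank F U) → F) →ₗ[F] (ι → F) := U.subtype.comp b.symm.toLinearMap
  let R := Q.comp L
  have hLU : ∀ v, L v ∈ U := fun v => (b.symm v).2
  have hsurj : ∀ y ∈ U, ∃ v, L v = y := fun y hy => ⟨b ⟨y, hy⟩, by simp [L]⟩
  have hp : ∀ x y, polar (⇑R) x y = polar (⇑Q) (L x) (L y) := fun x y => by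
    simp only [polar, R, QuadraticMap.comp_apply, map_add]
  have h1 : ∀ x, (∀ y, polar (⇑R) x y = 0) → x = 0 := fun x hx => by
    have := hU (L x) (hLU x) fun y hy => by
      obtain ⟨v, rfl⟩ := hsurj y hy
      rw [← hp]; exact hx v
    exact b.symm.injective (Subtype.ext (this.trans (by simp)))
  let e : Emb R Q :=
    { L := L, c := 1, hc := one_ne_zero, hL := fun x => by simp [R],
      hR := ⟨h1, fun x hx => h1 x fun y => by rw [QuadraticMap.polar_comm]; exact hx y⟩ }
  have hiter : ∀ (k : ℕ) (x : ι → F), x ∈ U → mat Q (g ^ k) *ᵥ x ∈ U := fun k => by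
    induction k with
    | zero => intro x hx; simpa [mat] using hx
    | succ k ih => intro x hx; rw [pow_succ, mat, mulVec_mul]; exact ih _ (hgU x hx)
  let a : Module.End F (Fin (Module.finrank F U) → F) :=
    b.toLinearMap.comp (((Matrix.toLin' (mat Q g)).restrict fun x hx => by
      rw [Matrix.toLin'_apply]; exact hgU x hx).comp b.symm.toLinearMap)
  have ha : ∀ v, L (a v) = mat Q g *ᵥ L v := fun v => by
    simp [L, a, Matrix.toLin'_apply]
  have hpow : ∀ (k : ℕ) v, L ((a ^ k) v) = mat Q (g ^ k) *ᵥ L v := fun k => by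
    induction k with
    | zero => intro v; simp [mat]
    | succ k ih => intro v; rw [pow_succ', Module.End.mul_apply, ha, ih, pow_succ', mat, mat, mat, mulVec_mul]
  obtain ⟨x, hx⟩ := exists_iso_of_end R a (fun v => by
      show Q (L (a v)) = Q (L v)
      rw [ha]; exact (mem_iff Q).mp g.2 _)
    (IsUnit.of_pow_eq_one (n := orderOf g) (LinearMap.ext fun v => e.L_injective (by
      show L ((a ^ orderOf g) v) = L v
      rw [hpow, pow_orderOf_eq_one]; exact Matrix.one_mulVec _)) (orderOf_pos g).ne')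
  refine ⟨R, e, x, hLU, hsurj, fun v => ?_⟩
  show L (mat R x *ᵥ v) = mat Q g *ᵥ L v
  have h := hx 1 v
  rw [pow_one, pow_one] at h
  rw [h, ha]

/-- The splitting. -/
theorem exists_split [DecidableEq F] (h2 : (2 : F) ≠ 0) (p : ℕ) [Fact p.Prime] [CharP F p] (hp2 : p ≠ 2)
    (Q : QuadraticForm F (ι → F)) (hQ : (polarBilin Q).Nondegenerate) (hι : 2 ≤ Fintype.card ι)
    (g : Cfsg.isometryGroup F (⇑Q)) (hd : detHom Q g = 1) (hs : spin Q g = 1) :
    ∃ (k m : ℕ) (R : QuadraticForm F (Fin k → F)) (T : QuadraticForm F (Fin m → F)) (eU : Emb R Q) (eW : Emb T Q)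
      (gU : Cfsg.isometryGroup F (⇑R)) (gW : Cfsg.isometryGroup F (⇑T)),
      k + m = Fintype.card ι ∧ Even k ∧ eU.Orth eW ∧ g = eU.ext gU * eW.ext gW ∧
      (∀ x, mat R gU *ᵥ x = x → x = 0) ∧ detHom R gU = 1 ∧ spin R gU = 1 ∧
      (Matrix.toLin' (mat T gW) - 1) ^ m = 0 ∧ ∃ a, orderOf gW = p ^ a := by
  have hp : p.Prime := Fact.out
  haveI : Nonempty ι := Fintype.card_pos_iff.1 (by omega)
  set n : Module.End F (ι → F) := Matrix.toLin' (mat Q g) - 1 with hn
  set K := Fintype.card ι with hK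
  have hKf : Module.finrank F (ι → F) = K := Module.finrank_fintype_fun_eq_card F
  set U := LinearMap.range (n ^ K) with hU
  set W := LinearMap.ker (n ^ K) with hW
  have hna : ∀ x, n x = mat Q g *ᵥ x - x := fun x => by simp [hn, Matrix.toLin'_apply]
  have hskew : ∀ x y, polar (⇑Q) (n x) (mat Q g *ᵥ y) = -polar (⇑Q) x (n y) := fun x y => by
    rw [hna, hna, QuadraticMap.polar_sub_left, QuadraticMap.polar_sub_right, polar_act]
    ring
  have hcg : ∀ y, n (mat Q g *ᵥ y) = mat Q g *ᵥ n y := fun y => by rw [hna, hna, Matrix.mulVec_sub]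
  have hpw : ∀ (j : ℕ) x y, polar (⇑Q) ((n ^ j) x) (mat Q (g ^ j) *ᵥ y) = (-1) ^ j * polar (⇑Q) x ((n ^ j) y) := by
    intro j
    induction j with
    | zero => intro x y; simp [mat]
    | succ j ih =>
      intro x y
      have hc : n (mat Q (g ^ j) *ᵥ y) = mat Q (g ^ j) *ᵥ n y := by
        rw [hna, hna, Matrix.mulVec_sub]
        congr 1
        rw [mat, mat, ← mulVec_mul, ← mulVec_mul, (Commute.self_pow g j).eq]
      rw [pow_succ' n, Module.End.mul_apply, pow_succ' g, mat, mulVec_mul, hskew, hc, ih,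
        ← Module.End.mul_apply (n ^ j), ← pow_succ, ← pow_succ' n, pow_succ (-1 : F)]
      ring
  have horth : ∀ x ∈ W, ∀ y ∈ U, polar (⇑Q) x y = 0 := by
    rintro x hx _ ⟨y, rfl⟩
    have h := hpw K x y
    rw [LinearMap.mem_ker.1 hx, QuadraticMap.polar_zero_left] at h
    exact (mul_eq_zero.1 h.symm).resolve_left (pow_ne_zero _ (neg_ne_zero.2 one_ne_zero))
  have hdis : W ⊓ U = ⊥ := by
    rw [eq_bot_iff]
    rintro _ ⟨hx, y, rfl⟩
    have h1 : y ∈ LinearMap.ker (n ^ (K + K)) := by
      rw [LinearMap.mem_ker, pow_add, Module.End.mul_apply]; exact hx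
    rw [Module.End.ker_pow_eq_ker_pow_finrank_of_le (by omega), hKf] at h1
    exact h1
  have hdim : Module.finrank F U + Module.finrank F W = K := by
    rw [hU, hW, LinearMap.finrank_range_add_finrank_ker, hKf]
  have hsup : W ⊔ U = ⊤ := by
    refine Submodule.eq_top_of_finrank_eq ?_
    have := Submodule.finrank_sup_add_finrank_inf_eq W U
    rw [hdis, finrank_bot, add_zero] at this
    rw [this, hKf]; omega
  have hsplit : ∀ y, ∃ w ∈ W, ∃ u ∈ U, w + u = y := fun y => Submodule.mem_sup.1 (hsup ▸ Submodule.mem_top)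
  have ndW : FormNormal.ND Q W := fun x hx h => hQ.1 x fun y => by
    obtain ⟨w, hw, u, hu, rfl⟩ := hsplit y
    show polar (⇑Q) x (w + u) = 0
    rw [QuadraticMap.polar_add_right, h w hw, horth x hx u hu, add_zero]
  have ndU : FormNormal.ND Q U := fun x hx h => hQ.1 x fun y => by
    obtain ⟨w, hw, u, hu, rfl⟩ := hsplit y
    show polar (⇑Q) x (w + u) = 0
    rw [QuadraticMap.polar_add_right, h u hu, QuadraticMap.polar_comm, horth w hw x hx, add_zero]
  have hcK : ∀ x, (n ^ K) (mat Q g *ᵥ x) = mat Q g *ᵥ (n ^ K) x := fun x => by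
    have hc : Commute (n ^ K) (Matrix.toLin' (mat Q g)) :=
      (((Commute.refl _).sub_left (Commute.one_left _))).pow_left K
    have := LinearMap.congr_fun hc.eq x
    simpa only [Module.End.mul_apply, Matrix.toLin'_apply] using this
  have invW : ∀ x ∈ W, mat Q g *ᵥ x ∈ W := fun x hx => by
    rw [LinearMap.mem_ker, hcK, LinearMap.mem_ker.1 hx, Matrix.mulVec_zero]
  have invU : ∀ x ∈ U, mat Q g *ᵥ x ∈ U := by
    rintro _ ⟨y, rfl⟩
    exact ⟨_, hcK y⟩
  set m := Module.finrank F W with hmdef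
  obtain ⟨R, eU, gU, hUm, hUs, hUg⟩ := exists_restrict Q g U ndU invU
  obtain ⟨T, eW, gW, hWm, hWs, hWg⟩ := exists_restrict Q g W ndW invW
  have hO : eU.Orth eW := fun x y => by
    rw [QuadraticMap.polar_comm]; exact horth _ (hWm y) _ (hUm x)
  have hg : g = eU.ext gU * eW.ext gW := ext_mulVec Q fun y => by
    obtain ⟨w, hw, u, hu, rfl⟩ := hsplit y
    obtain ⟨a, rfl⟩ := hUs u hu
    obtain ⟨b, rfl⟩ := hWs w hw
    rw [Matrix.mulVec_add, Matrix.mulVec_add, hO.mul_L, hUg, (hO.commute gU gW).eq, hO.symm.mul_L, hWg]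
  have hfree : ∀ x, mat R gU *ᵥ x = x → x = 0 := fun x hx => by
    have h1 : n (eU.L x) = 0 := by rw [hna, ← hUg, hx, sub_self]
    have h2' : eU.L x ∈ W ⊓ U := ⟨by
      rw [SetLike.mem_coe, LinearMap.mem_ker, show K = K - 1 + 1 by omega, pow_succ, Module.End.mul_apply, h1, map_zero],
      hUm x⟩
    rw [hdis, Submodule.mem_bot] at h2'
    exact eU.L_injective (h2'.trans (map_zero _).symm)
  have hWn : (Matrix.toLin' (mat T gW) - 1) ^ m = 0 := by
    have hnp : IsNilpotent (Matrix.toLin' (mat T gW) - 1) := by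
      refine ⟨K, LinearMap.ext fun x => eW.L_injective ?_⟩
      have : ∀ j (x : Fin m → F), eW.L (((Matrix.toLin' (mat T gW) - 1) ^ j) x) = (n ^ j) (eW.L x) := fun j => by
        induction j with
        | zero => intro x; rfl
        | succ j ih =>
          intro x
          rw [pow_succ', pow_succ', Module.End.mul_apply, Module.End.mul_apply, ← ih, hna, ← hWg, ← map_sub]
          congr 1
      rw [this, LinearMap.mem_ker.1 (hWm x), LinearMap.zero_apply, map_zero]
    have h := LinearMap.aeval_self_charpoly (Matrix.toLin' (mat T gW) - 1)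
    rw [hnp.charpoly_eq_X_pow_finrank, map_pow, Polynomial.aeval_X, Module.finrank_fintype_fun_eq_card,
      Fintype.card_fin] at h
    exact h
  have hodd : ∃ a, orderOf gW = p ^ a := by
    rcases Nat.eq_zero_or_pos m with h0 | h0
    · refine ⟨0, orderOf_eq_one_iff.2 (ext_mulVec T fun x => funext fun i => absurd i.2 (by omega))⟩
    haveI : Nonempty (Fin m) := ⟨⟨0, h0⟩⟩
    obtain ⟨a, -, ha⟩ := (Nat.dvd_prime_pow hp).1
      (orderOf_dvd_of_pow_eq_one (pow_eq_one_of_nilp p gW hWn (Nat.lt_pow_self hp.one_lt).le))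
    exact ⟨a, ha⟩
  have hWt := odd_triv h2 T eW.hR gW (by
    obtain ⟨a, ha⟩ := hodd; rw [ha]; exact (hp.odd_of_ne_two hp2).pow)
  have hWext : spin Q (eW.ext gW) = 1 := (odd_triv h2 Q hQ _ (by
    rw [orderOf_injective eW.ext eW.ext_injective]
    obtain ⟨a, ha⟩ := hodd; rw [ha]; exact (hp.odd_of_ne_two hp2).pow)).2
  have hdU : detHom R gU = 1 := by
    rw [hg, map_mul, det_ext eU h2, det_ext eW h2, hWt.1, mul_one] at hd
    exact hd
  have hev : Even (Module.finrank F U) := by
    rcases Nat.even_or_odd (Module.finrank F U) with h | h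
    · exact h
    exfalso
    obtain ⟨v, hv0, hv⟩ := OrthSpectrum.exists_fixed R h2 eU.hR (by rwa [Fintype.card_fin]) (mat R gU)
      ((mem_iff R).mp gU.2) (congrArg Units.val hdU)
    exact hv0 (hfree v hv)
  refine ⟨_, _, R, T, eU, eW, gU, gW, hdim, hev, hO, hg, hfree, hdU, ?_, hWn, hodd⟩
  rcases Nat.eq_zero_or_pos (Module.finrank F U) with h0 | h0
  · rw [show gU = 1 from ext_mulVec R fun x => funext fun i => absurd i.2 (by omega), map_one]
  · rw [← spin_ext eU h2 hQ hι (by rw [Fintype.card_fin]; obtain ⟨r, hr⟩ := hev; omega) gU hdU]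
    rw [hg, map_mul, hWext, mul_one] at hs
    exact hs

end Cfsg.Lib.SpectrumNine
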