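import Cfsg.Agent.Known.SpectrumNine.Emb
import Mathlib

/-! Unipotent isometries: cyclic shifts and their Eichler lifts. -/

set_option autoImplicit false
set_option linter.style.haveILetI false
set_option linter.unusedSectionVars false

open QuadraticMap Cfsg.Lib.Classical Cfsg.Lib.Classical.Refl Matrix

namespace Cfsg.Lib.SpectrumNine

universe u

variable {F : Type u} [Field F] [Fintype F]

/-- Isometries of odd order lie in `Ω`. -/
theorem mem_omega_of_odd {ι : Type} [Fintype ι] [DecidableEq ι] [DecidableEq F] (h2 : (2 : F) ≠ 0)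
    (Q : QuadraticForm F (ι → F)) (hQ : (polarBilin Q).Nondegenerate) (hι : 2 ≤ Fintype.card ι)
    (g : Cfsg.isometryGroup F (⇑Q)) (hg : Odd (orderOf g)) : g ∈ Cfsg.Omega F (⇑Q) := by
  haveI : (Cfsg.Omega F (⇑Q)).Normal := by unfold Cfsg.Omega; infer_instance
  have h4 := Subgroup.pow_index_mem (Cfsg.Omega F (⇑Q)) g
  rw [index_omega_odd Q h2 hQ hι] at h4
  obtain ⟨j, hj⟩ := exists_pow_eq_self_of_coprime (x := g) (n := 4)
    (Nat.Coprime.pow_left 2 (Nat.coprime_two_left.2 hg))
  rw [← hj]
  exact pow_mem h4 _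

/-- A finite order endomorphism preserving a form gives an isometry. -/
theorem exists_iso_of_end {ι : Type} [Fintype ι] [DecidableEq ι] (Q : QuadraticForm F (ι → F))
    (a : Module.End F (ι → F)) (ha : ∀ x, Q (a x) = Q x) (hu : IsUnit a) :
    ∃ g : Cfsg.isometryGroup F (⇑Q), ∀ (k : ℕ) x, mat Q (g ^ k) *ᵥ x = (a ^ k) x := by
  have h : IsUnit (LinearMap.toMatrix' a) := hu.map LinearMap.toMatrixAlgEquiv'
  refine ⟨⟨h.unit, (mem_iff Q).mpr fun v => ?_⟩, fun k => ?_⟩
  · rw [IsUnit.unit_spec, LinearMap.toMatrix'_mulVec]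
    exact ha v
  · induction k with
    | zero => intro x; simp [mat]
    | succ k ih =>
      intro x
      rw [pow_succ', mat, mulVec_mul, pow_succ', Module.End.mul_apply, ← ih x]
      exact LinearMap.toMatrix'_mulVec a _

variable {p : ℕ} [Fact p.Prime] [CharP F p]

/-- The sum of squares on `p` coordinates. -/
noncomputable def sumSq (p : ℕ) [Fact p.Prime] : QuadraticForm F (ZMod p → F) :=
  QuadraticMap.weightedSumSquares F (fun _ : ZMod p => (1 : F))

theorem sumSq_apply (x : ZMod p → F) : sumSq p x = ∑ i, x i * x i := by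
  simp [sumSq]

theorem sumSq_nd (h2 : (2 : F) ≠ 0) : (polarBilin (sumSq p : QuadraticForm F (ZMod p → F))).Nondegenerate := by
  have hp : ∀ x y : ZMod p → F, polar (⇑(sumSq p : QuadraticForm F (ZMod p → F))) x y = 2 * ∑ i, x i * y i := by
    intro x y
    simp only [polar, sumSq_apply, Pi.add_apply, Finset.mul_sum, ← Finset.sum_sub_distrib]
    exact Finset.sum_congr rfl fun i _ => by ring
  have h1 : ∀ x : ZMod p → F, (∀ y, polar (⇑(sumSq p : QuadraticForm F (ZMod p → F))) x y = 0) → x = 0 := fun x hx => by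
    funext i
    have := hx (Pi.single i 1)
    rw [hp] at this
    simpa [Pi.single_apply, h2] using this
  exact ⟨h1, fun x hx => h1 x fun y => by rw [QuadraticMap.polar_comm]; exact hx y⟩

/-- The shift of the coordinates. -/
def shiftEnd (p : ℕ) [Fact p.Prime] : Module.End F (ZMod p → F) := LinearMap.funLeft F F fun i => i + 1

theorem shiftEnd_pow (k : ℕ) (x : ZMod p → F) (i : ZMod p) : (shiftEnd p ^ k) x i = x (i + k) := by
  induction k generalizing x with
  | zero => simp
  | succ k ih =>
    rw [pow_succ, Module.End.mul_apply, ih]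
    simp [shiftEnd, LinearMap.funLeft, add_assoc]

theorem shiftEnd_order : (shiftEnd p : Module.End F (ZMod p → F)) ^ p = 1 :=
  LinearMap.ext fun x => funext fun i => by simp [shiftEnd_pow]

theorem sumSq_shift (x : ZMod p → F) : sumSq p (shiftEnd p x) = sumSq p x := by
  rw [sumSq_apply, sumSq_apply]
  exact Equiv.sum_comp (Equiv.addRight (1 : ZMod p)) fun i => x i * x i

theorem sum_shift_single :
    ∑ k ∈ Finset.range p, (shiftEnd p ^ k) (Pi.single 0 (1 : F) : ZMod p → F) = fun _ => 1 := by
  funext i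
  rw [Finset.sum_apply]
  simp only [shiftEnd_pow, Pi.single_apply]
  rw [Finset.sum_eq_single (-i).val]
  · simp
  · intro b hb hne
    rw [if_neg fun h => hne ?_]
    have hb' : (b : ZMod p) = -i := by linear_combination h
    rw [← hb', ZMod.val_natCast, Nat.mod_eq_of_lt (Finset.mem_range.1 hb)]
  · exact fun h => absurd (Finset.mem_range.2 (ZMod.val_lt _)) h

variable (p)

/-- The shift lifted over a hyperbolic plane. -/
def eichEnd : Module.End F (ZMod p ⊕ Bool → F) where
  toFun x := Sum.elim (fun i => x (Sum.inl (i + 1)) + x (Sum.inr true) * if i = 0 then 1 else 0)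
    (fun b => if b then x (Sum.inr true) else x (Sum.inr false) - 2 * x (Sum.inl 1) - x (Sum.inr true))
  map_add' x y := by
    funext i
    rcases i with i | (_ | _)
    · simp only [Sum.elim_inl, Pi.add_apply]; ring
    · simp only [Sum.elim_inr, Pi.add_apply, Bool.false_eq_true, if_false]; ring
    · simp only [Sum.elim_inr, Pi.add_apply, if_true]
  map_smul' c x := by
    funext i
    rcases i with i | (_ | _)
    · simp only [Sum.elim_inl, Pi.smul_apply, smul_eq_mul, RingHom.id_apply]; ring
    · simp only [Sum.elim_inr, Pi.smul_apply, smul_eq_mul, RingHom.id_apply, Bool.false_eq_true, if_false]; ring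
    · simp only [Sum.elim_inr, Pi.smul_apply, smul_eq_mul, RingHom.id_apply, if_true]

theorem eichEnd_inl (x : ZMod p ⊕ Bool → F) (i : ZMod p) :
    eichEnd p x (Sum.inl i) = x (Sum.inl (i + 1)) + x (Sum.inr true) * if i = 0 then 1 else 0 := rfl

theorem eichEnd_false (x : ZMod p ⊕ Bool → F) :
    eichEnd p x (Sum.inr false) = x (Sum.inr false) - 2 * x (Sum.inl 1) - x (Sum.inr true) := rfl

theorem eichEnd_true (x : ZMod p ⊕ Bool → F) : eichEnd p x (Sum.inr true) = x (Sum.inr true) := rfl

/-- The shift, of order `p`. -/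
theorem exists_shift : ∃ h : Cfsg.isometryGroup F (⇑(sumSq p : QuadraticForm F (ZMod p → F))),
    orderOf h = p ∧ ∀ (k : ℕ) x, mat (sumSq p) (h ^ k) *ᵥ x = (shiftEnd p ^ k) x := by
  obtain ⟨h, hh⟩ := exists_iso_of_end (sumSq p) (shiftEnd p : Module.End F (ZMod p → F)) sumSq_shift
    (IsUnit.of_pow_eq_one shiftEnd_order (Fact.out : p.Prime).ne_zero)
  refine ⟨h, orderOf_eq_prime (ext_mulVec _ fun x => ?_) fun h1 => ?_, hh⟩
  · rw [hh, shiftEnd_order]; simp [mat]
  · have h3 := congrFun (hh 1 (Pi.single 0 (1 : F))) 0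
    rw [h1, one_pow, shiftEnd_pow] at h3
    simp [mat] at h3

/-- An isometry of order `p ^ 2` in dimension `p + 2`. -/
theorem exists_eichler (h2 : (2 : F) ≠ 0) :
    ∃ (κ : Type) (_ : Fintype κ) (_ : DecidableEq κ) (R : QuadraticForm F (κ → F))
      (g : Cfsg.isometryGroup F (⇑R)),
      Fintype.card κ = p + 2 ∧ (polarBilin R).Nondegenerate ∧ orderOf g = p ^ 2 := by
  have hp : p.Prime := Fact.out
  let S : QuadraticForm F (ZMod p → F) := sumSq p
  let π : (ZMod p ⊕ Bool → F) →ₗ[F] (ZMod p → F) := LinearMap.funLeft F F Sum.inl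
  let R : QuadraticForm F (ZMod p ⊕ Bool → F) :=
    S.comp π + QuadraticMap.linMulLin (LinearMap.proj (Sum.inr false)) (LinearMap.proj (Sum.inr true))
  have hR : ∀ x, R x = (∑ i, x (Sum.inl i) * x (Sum.inl i)) + x (Sum.inr false) * x (Sum.inr true) := fun x => by
    simp [R, S, π, sumSq_apply, LinearMap.funLeft]
  let a : Module.End F (ZMod p ⊕ Bool → F) := eichEnd p
  have haR : ∀ x, R (a x) = R x := fun x => by
    rw [hR, hR]
    simp only [a, eichEnd_inl, eichEnd_false, eichEnd_true]
    have e : ∑ i : ZMod p, (x (Sum.inl (i + 1)) + x (Sum.inr true) * if i = 0 then 1 else 0) *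
        (x (Sum.inl (i + 1)) + x (Sum.inr true) * if i = 0 then 1 else 0) =
        (∑ i, x (Sum.inl i) * x (Sum.inl i)) + 2 * x (Sum.inr true) * x (Sum.inl 1) + x (Sum.inr true) * x (Sum.inr true) := by
      rw [← Equiv.sum_comp (Equiv.addRight (1 : ZMod p)) fun i => x (Sum.inl i) * x (Sum.inl i)]
      simp only [Equiv.coe_addRight]
      have e1 : 2 * x (Sum.inr true) * x (Sum.inl 1) + x (Sum.inr true) * x (Sum.inr true) =
          ∑ i : ZMod p, if i = 0 then 2 * x (Sum.inr true) * x (Sum.inl (i + 1)) +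
            x (Sum.inr true) * x (Sum.inr true) else 0 := by
        rw [Fintype.sum_ite_eq', zero_add]
      rw [add_assoc, e1, ← Finset.sum_add_distrib]
      exact Finset.sum_congr rfl fun i _ => by split_ifs <;> ring
    rw [e]
    ring
  have hRnd : (polarBilin R).Nondegenerate := by
    have hpol : ∀ x y, polar (⇑R) x y = (∑ i, 2 * (x (Sum.inl i) * y (Sum.inl i))) +
        (x (Sum.inr false) * y (Sum.inr true) + y (Sum.inr false) * x (Sum.inr true)) := fun x y => by
      have e : ∑ i, (x + y) (Sum.inl i) * (x + y) (Sum.inl i) = (∑ i, x (Sum.inl i) * x (Sum.inl i)) +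
          (∑ i, y (Sum.inl i) * y (Sum.inl i)) + ∑ i, 2 * (x (Sum.inl i) * y (Sum.inl i)) := by
        rw [← Finset.sum_add_distrib, ← Finset.sum_add_distrib]
        exact Finset.sum_congr rfl fun i _ => by simp only [Pi.add_apply]; ring
      rw [polar, hR, hR, hR, e, Pi.add_apply, Pi.add_apply]
      ring
    have h1 : ∀ x, (∀ y, polar (⇑R) x y = 0) → x = 0 := fun x hx => by
      funext i
      rcases i with i | (_ | _)
      · have := hx (Pi.single (Sum.inl i) 1)
        rw [hpol] at this
        simpa [Pi.single_apply, h2] using this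
      · have := hx (Pi.single (Sum.inr true) 1)
        rw [hpol] at this
        simpa [Pi.single_apply] using this
      · have := hx (Pi.single (Sum.inr false) 1)
        rw [hpol] at this
        simpa [Pi.single_apply] using this
    exact ⟨h1, fun x hx => h1 x fun y => by rw [QuadraticMap.polar_comm]; exact hx y⟩
  -- nilpotency
  let n : Module.End F (ZMod p ⊕ Bool → F) := a - 1
  have hb : ∀ k x, x (Sum.inr true) = 0 → ((n ^ k) x) (Sum.inr true) = 0 ∧
      π ((n ^ k) x) = ((shiftEnd p - 1 : Module.End F (ZMod p → F)) ^ k) (π x) := fun k => by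
    induction k with
    | zero => exact fun x hx => ⟨hx, rfl⟩
    | succ k ih =>
      intro x hx
      obtain ⟨h1, h3⟩ := ih x hx
      rw [pow_succ', Module.End.mul_apply, pow_succ', Module.End.mul_apply, ← h3]
      refine ⟨by simp [n, a, eichEnd_true], ?_⟩
      funext i
      simp [n, a, π, eichEnd_inl, h1, shiftEnd, LinearMap.funLeft]
  haveI : CharP (Module.End F (ZMod p → F)) p :=
    charP_of_injective_algebraMap (algebraMap F (Module.End F (ZMod p → F))).injective p
  haveI : CharP (Module.End F (ZMod p ⊕ Bool → F)) p :=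
    charP_of_injective_algebraMap (algebraMap F (Module.End F (ZMod p ⊕ Bool → F))).injective p
  have hnil : n ^ (p + 2) = 0 := by
    refine LinearMap.ext fun x => ?_
    rw [show p + 2 = 1 + p + 1 by ring, pow_add, pow_one, Module.End.mul_apply, pow_add, pow_one, Module.End.mul_apply]
    obtain ⟨h1, h3⟩ := hb p (n x) (by simp [n, a, eichEnd_true])
    have e : (shiftEnd p - 1 : Module.End F (ZMod p → F)) ^ p = 0 := by
      rw [sub_pow_char_of_commute p (Commute.one_right _), one_pow, shiftEnd_order, sub_self]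
    rw [e, LinearMap.zero_apply] at h3
    have h4 : ∀ i, ((n ^ p) (n x)) (Sum.inl i) = 0 := fun i => congrFun h3 i
    funext i
    rcases i with i | (_ | _)
    · simp only [n, LinearMap.sub_apply, Module.End.one_apply, a, Pi.sub_apply, eichEnd_inl] at h1 h4 ⊢
      simp [h1, h4]
    · simp only [n, LinearMap.sub_apply, Module.End.one_apply, a, Pi.sub_apply, eichEnd_false] at h1 h4 ⊢
      simp [h1, h4]
    · simp [n, a, eichEnd_true]
  have hsq : p + 2 ≤ p ^ 2 := by nlinarith [hp.two_le]
  have hap : a ^ p ^ 2 = 1 := by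
    have h := sub_pow_char_pow_of_commute (x := a) (y := 1) p 2 (Commute.one_right _)
    rw [one_pow, show (a - 1) ^ p ^ 2 = 0 from pow_eq_zero_of_le hsq hnil, eq_comm, sub_eq_zero] at h
    exact h
  obtain ⟨g, hg⟩ := exists_iso_of_end R a haR (IsUnit.of_pow_eq_one hap (pow_ne_zero _ hp.ne_zero))
  refine ⟨ZMod p ⊕ Bool, inferInstance, inferInstance, R, g, by simp, hRnd, ?_⟩
  refine orderOf_eq_prime_pow (n := 1) (fun h1 => ?_) (ext_mulVec R fun x => by rw [hg, hap]; simp [mat])
  rw [pow_one] at h1
  let f : ZMod p ⊕ Bool → F := Sum.elim 0 fun b => if b then 1 else 0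
  have hstep : ∀ k, ((a ^ k) f) (Sum.inr true) = 1 ∧
      π ((a ^ k) f) = ∑ j ∈ Finset.range k, (shiftEnd p ^ j) (Pi.single 0 1) := fun k => by
    induction k with
    | zero => exact ⟨rfl, by funext i; simp [π, f]⟩
    | succ k ih =>
      rw [pow_succ', Module.End.mul_apply]
      refine ⟨by rw [eichEnd_true, ih.1], funext fun i => ?_⟩
      rw [Finset.sum_range_succ', Pi.add_apply, Finset.sum_apply]
      have h4 := congrFun ih.2 (i + 1)
      simp only [π, LinearMap.funLeft_apply, Finset.sum_apply, shiftEnd_pow] at h4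
      simp only [π, LinearMap.funLeft_apply, a, eichEnd_inl]
      rw [ih.1, h4, one_mul, shiftEnd_pow, Nat.cast_zero, add_zero, Pi.single_apply]
      congr 1
      exact Finset.sum_congr rfl fun j _ => by rw [shiftEnd_pow]; push_cast; ring_nf
  have := (hstep p).2
  rw [← hg, h1, sum_shift_single] at this
  have := congrFun this 0
  simp [mat, π, f] at this

end Cfsg.Lib.SpectrumNine
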